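/-
Elementary consequences of the rank-one set-up `Cfsg.IsRankOneSetup`.
-/
import Mathlib
import Cfsg.Prelude.Def_LieRecognition

set_option autoImplicit false

namespace CfsgLib.RankOneSetup

open MulAction (stabilizer)

section Invol

variable {G : Type*} [Group G]

theorem inv_eq_of_sq {t : G} (h : t * t = 1) : t⁻¹ = t := inv_eq_of_mul_eq_one_right h

/-- If the product of two involutions has odd order, they are conjugate by a power of the product. -/
theorem conj_of_odd_orderOf {s u : G} (hs : s * s = 1) (hu : u * u = 1)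
    (hodd : Odd (orderOf (s * u))) : ∃ k : ℕ, (s * u) ^ k * s * ((s * u) ^ k)⁻¹ = u := by
  obtain ⟨k, hk⟩ := hodd
  refine ⟨k, ?_⟩
  have h1 : s * (s * u) * s⁻¹ = (s * u)⁻¹ := by
    rw [mul_inv_rev, inv_eq_of_sq hs, inv_eq_of_sq hu, ← mul_assoc s s u, hs, one_mul]
  have h2 : s * (s * u) ^ k * s⁻¹ = ((s * u) ^ k)⁻¹ := by
    rw [← conj_pow, h1, inv_pow]
  have h3 : (s * u) ^ (2 * k + 1) = 1 := hk ▸ pow_orderOf_eq_one _
  calc (s * u) ^ k * s * ((s * u) ^ k)⁻¹ = (s * u) ^ k * s * (s * (s * u) ^ k * s⁻¹) := by rw [h2]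
    _ = (s * u) ^ k * (s * s) * (s * u) ^ k * s⁻¹ := by group
    _ = (s * u) ^ (2 * k) * s⁻¹ := by rw [hs, mul_one, ← pow_add, two_mul]
    _ = (s * u)⁻¹ * s⁻¹ := by
        have h4 : (s * u) ^ (2 * k) = (s * u)⁻¹ :=
          mul_eq_one_iff_eq_inv.1 (by rw [← pow_succ]; exact h3)
        rw [h4]
    _ = u := by rw [mul_inv_rev, inv_eq_of_sq hs, inv_eq_of_sq hu, mul_assoc, hs, mul_one]

/-- If the product of two involutions has even order, some involution commutes with both. -/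
theorem exists_commute_of_even_orderOf [Finite G] {s u : G} (hs : s * s = 1) (hu : u * u = 1)
    (heven : Even (orderOf (s * u))) :
    ∃ z : G, z ≠ 1 ∧ z * z = 1 ∧ z * s = s * z ∧ z * u = u * z := by
  obtain ⟨n, hn⟩ := heven
  have hpos := orderOf_pos (s * u)
  have hz2 : (s * u) ^ n * (s * u) ^ n = 1 := by rw [← pow_add, ← hn, pow_orderOf_eq_one]
  have h1 : s * (s * u) * s⁻¹ = (s * u)⁻¹ := by
    rw [mul_inv_rev, inv_eq_of_sq hs, inv_eq_of_sq hu, ← mul_assoc s s u, hs, one_mul]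
  have h2 : s * (s * u) ^ n * s⁻¹ = (s * u) ^ n := by
    rw [← conj_pow, h1, inv_pow, inv_eq_of_sq hz2]
  have hzs : (s * u) ^ n * s = s * (s * u) ^ n := (mul_inv_eq_iff_eq_mul.1 h2).symm
  refine ⟨(s * u) ^ n, pow_ne_one_of_lt_orderOf (by omega) (by omega), hz2, hzs, ?_⟩
  have hx : (s * u) ^ n * (s * u) = (s * u) * (s * u) ^ n := (Commute.pow_self _ _).eq
  calc (s * u) ^ n * u = (s * u) ^ n * (s * s) * u := by rw [hs, mul_one]
    _ = ((s * u) ^ n * s) * (s * u) := by simp only [mul_assoc]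
    _ = s * ((s * u) ^ n * (s * u)) := by rw [hzs, mul_assoc]
    _ = (s * s) * u * (s * u) ^ n := by rw [hx]; simp only [mul_assoc]
    _ = u * (s * u) ^ n := by rw [hs, one_mul]

/-- An element centralised by one of two involutions with odd product and inverted by the other is an
involution or trivial. -/
theorem sq_eq_one_of_centralize_invert {z u x : G} (hz : z * z = 1) (hu : u * u = 1)
    (hodd : Odd (orderOf (z * u))) (hzx : z * x = x * z) (hux : u * x * u⁻¹ = x⁻¹) :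
    x * x = 1 := by
  obtain ⟨k, hk⟩ := conj_of_odd_orderOf hz hu hodd
  set g := (z * u) ^ k with hg
  have hzx' : z * x * z⁻¹ = x := by rw [hzx, mul_inv_cancel_right]
  have hstep : ∀ j : ℕ, (z * u) ^ j * x * ((z * u) ^ j)⁻¹ = x ∨
      (z * u) ^ j * x * ((z * u) ^ j)⁻¹ = x⁻¹ := by
    intro j
    induction j with
    | zero => left; simp
    | succ j ih =>
      have e : (z * u) ^ (j + 1) * x * ((z * u) ^ (j + 1))⁻¹ =
          (z * u) ^ j * (z * (u * x * u⁻¹) * z⁻¹) * ((z * u) ^ j)⁻¹ := by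
        rw [pow_succ]; group
      have e' : z * (u * x * u⁻¹) * z⁻¹ = x⁻¹ := by
        rw [hux]; calc z * x⁻¹ * z⁻¹ = (z * x * z⁻¹)⁻¹ := by group
          _ = x⁻¹ := by rw [hzx']
      rw [e, e']
      rcases ih with h | h
      · right
        calc _ = ((z * u) ^ j * x * ((z * u) ^ j)⁻¹)⁻¹ := by group
          _ = x⁻¹ := by rw [h]
      · left
        calc _ = ((z * u) ^ j * x * ((z * u) ^ j)⁻¹)⁻¹ := by group
          _ = x := by rw [h, inv_inv]
  have hinv : g⁻¹ * x * g = x ∨ g⁻¹ * x * g = x⁻¹ := by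
    rcases hstep k with h | h
    · left
      rw [← hg] at h
      calc g⁻¹ * x * g = g⁻¹ * (g * x * g⁻¹) * g := by rw [h]
        _ = x := by group
    · right
      rw [← hg] at h
      calc g⁻¹ * x * g = g⁻¹ * (g * x * g⁻¹)⁻¹ * g := by rw [h, inv_inv]
        _ = x⁻¹ := by group
  have hfix : u * x * u⁻¹ = x := by
    rw [← hk]
    have e : g * z * g⁻¹ * x * (g * z * g⁻¹)⁻¹ = g * (z * (g⁻¹ * x * g) * z⁻¹) * g⁻¹ := by group
    rw [e]
    rcases hinv with h | h <;> rw [h]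
    · calc g * (z * x * z⁻¹) * g⁻¹ = g * (g⁻¹ * x * g) * g⁻¹ := by rw [hzx', h]
        _ = x := by group
    · calc g * (z * x⁻¹ * z⁻¹) * g⁻¹ = g * (z * x * z⁻¹)⁻¹ * g⁻¹ := by group
        _ = g * (g⁻¹ * x * g) * g⁻¹ := by rw [hzx', h]
        _ = x := by group
  rw [hux] at hfix
  calc x * x = x * x⁻¹ := by rw [hfix]
    _ = 1 := mul_inv_cancel x

theorem sqrt_odd [Finite G] {X : Subgroup G} (hodd : Odd (Nat.card X)) {w : G} (hw : w ∈ X) :
    w ^ ((Nat.card X + 1) / 2) * w ^ ((Nat.card X + 1) / 2) = w := by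
  obtain ⟨k, hk⟩ := hodd
  have h1 : w ^ Nat.card X = 1 := congrArg Subtype.val (pow_card_eq_one' (G := X) (x := ⟨w, hw⟩))
  rw [← pow_add, show (Nat.card X + 1) / 2 + (Nat.card X + 1) / 2 = Nat.card X + 1 by omega,
    pow_succ, h1, one_mul]

theorem eq_one_of_sq_of_odd [Finite G] {X : Subgroup G} (hodd : Odd (Nat.card X)) {w : G}
    (hw : w ∈ X) (h : w * w = 1) : w = 1 := by
  have := sqrt_odd hodd hw
  rw [← (Commute.refl w).mul_pow, h, one_pow] at this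
  exact this.symm

theorem eq_of_sq_eq_of_odd [Finite G] {X : Subgroup G} (hodd : Odd (Nat.card X)) {z z' : G}
    (hz : z ∈ X) (hz' : z' ∈ X) (h : z * z = z' * z') : z = z' := by
  rw [← sqrt_odd hodd hz, ← sqrt_odd hodd hz', ← (Commute.refl z).mul_pow,
    ← (Commute.refl z').mul_pow, h]

/-- An involution normalising a group of odd order: unique factorisation into a fixed and an
inverted part. -/
theorem exists_unique_factor [Finite G] {t : G} (ht : t * t = 1) {X : Subgroup G}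
    (hodd : Odd (Nat.card X)) (hnorm : ∀ x ∈ X, t * x * t⁻¹ ∈ X) {x : G} (hx : x ∈ X) :
    ∃! p : G × G, p.1 ∈ X ⊓ Subgroup.centralizer {t} ∧ p.2 ∈ Cfsg.invertedBy X t ∧
      x = p.1 * p.2 := by
  set w := (t * x * t⁻¹)⁻¹ * x with hw
  have hwX : w ∈ X := mul_mem (inv_mem (hnorm x hx)) hx
  set z := w ^ ((Nat.card X + 1) / 2) with hz
  have hzX : z ∈ X := pow_mem hwX _
  have hz2 : z * z = w := sqrt_odd hodd hwX
  have htt : t⁻¹ = t := inv_eq_of_sq ht
  have htw : t * w * t⁻¹ = w⁻¹ := by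
    calc t * w * t⁻¹ = (t * t) * x⁻¹ * (t * t)⁻¹ * (t * x * t⁻¹) := by rw [hw]; group
      _ = x⁻¹ * (t * x * t⁻¹) := by rw [ht, one_mul, inv_one, mul_one]
      _ = w⁻¹ := by rw [hw]; group
  have htz : t * z * t⁻¹ = z⁻¹ := by rw [hz, ← conj_pow, htw, inv_pow]
  refine ⟨(x * z⁻¹, z), ⟨Subgroup.mem_inf.2 ⟨mul_mem hx (inv_mem hzX), ?_⟩, ⟨hzX, htz⟩, by group⟩, ?_⟩
  · refine Subgroup.mem_centralizer_singleton_iff.2 ?_
    have h : t * (x * z⁻¹) * t⁻¹ = x * z⁻¹ := by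
      calc t * (x * z⁻¹) * t⁻¹ = (t * x * t⁻¹) * (t * z * t⁻¹)⁻¹ := by group
        _ = (t * x * t⁻¹) * z := by rw [htz, inv_inv]
        _ = x * w⁻¹ * z := by rw [hw]; group
        _ = x * z⁻¹ := by rw [← hz2]; group
    exact (mul_inv_eq_iff_eq_mul.1 h).symm
  · rintro ⟨y', z'⟩ ⟨⟨-, hy'⟩, ⟨hz'X, hz'⟩, e⟩
    simp only at e hy' hz'X hz'
    have hy2 : t * y' * t⁻¹ = y' := by
      rw [← Subgroup.mem_centralizer_singleton_iff.1 hy', mul_inv_cancel_right]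
    have hw' : w = z' * z' := by
      calc w = (t * (y' * z') * t⁻¹)⁻¹ * (y' * z') := by rw [hw, ← e]
        _ = ((t * y' * t⁻¹) * (t * z' * t⁻¹))⁻¹ * (y' * z') := by group
        _ = z' * z' := by rw [hy2, hz']; group
    have hzz : z' = z := eq_of_sq_eq_of_odd hodd hz'X hzX (by rw [hz2, hw'])
    exact Prod.ext (by show y' = x * z⁻¹; rw [e, hzz]; group) hzz

end Invol

variable {G Ω : Type*} [Group G] [MulAction G Ω] {a : Ω} {t : G} {Q : Subgroup G}
  (hS : Cfsg.IsRankOneSetup G Ω a t Q)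

local notation "𝐌" => stabilizer G a
local notation "𝐃" => stabilizer G a ⊓ stabilizer G (t • a)
local notation "𝐈" => Cfsg.involutionsIn (stabilizer G a : Set G)

include hS

omit hS in
theorem D_le {d : G} (hd : d ∈ 𝐃) : d ∈ 𝐌 := (Subgroup.mem_inf.1 hd).1

omit hS in
theorem smul_a_of_mem_D {d : G} (hd : d ∈ 𝐃) : d • a = a :=
  MulAction.mem_stabilizer_iff.1 (Subgroup.mem_inf.1 hd).1

omit hS in
theorem smul_b_of_mem_D {d : G} (hd : d ∈ 𝐃) : d • (t • a) = t • a :=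
  MulAction.mem_stabilizer_iff.1 (Subgroup.mem_inf.1 hd).2

theorem t_inv : t⁻¹ = t := inv_eq_of_sq hS.mul_self

theorem b_ne : t • a ≠ a := fun h => hS.not_mem (MulAction.mem_stabilizer_iff.2 h)

theorem t_smul_b : t • (t • a) = a := by rw [← mul_smul, hS.mul_self, one_smul]

theorem exists_pair {c d c' d' : Ω} (h : c ≠ d) (h' : c' ≠ d') :
    ∃ g : G, g • c = c' ∧ g • d = d' :=
  MulAction.is_two_pretransitive_iff.1 hS.two_transitive h h'

theorem exists_smul_eq' (c : Ω) : ∃ g : G, g • a = c := by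
  by_cases h : c = a
  · exact ⟨1, by rw [one_smul, h]⟩
  · obtain ⟨g, hg, -⟩ := exists_pair hS (Ne.symm (b_ne hS)) h
    exact ⟨g, hg⟩

theorem finite_omega [Finite G] : Finite Ω :=
  Finite.of_surjective (fun g : G => g • a) (exists_smul_eq' hS)

theorem conj_t_mem {d : G} (hd : d ∈ 𝐃) : t * d * t⁻¹ ∈ 𝐃 := by
  have h1 := smul_a_of_mem_D hd
  have h2 := smul_b_of_mem_D hd
  rw [t_inv hS]
  refine ⟨MulAction.mem_stabilizer_iff.2 ?_, MulAction.mem_stabilizer_iff.2 ?_⟩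
  · rw [mul_smul, mul_smul, h2, t_smul_b hS]
  · rw [mul_smul, mul_smul, t_smul_b hS, h1]

theorem exists_mem_Q_smul {c : Ω} (hc : c ≠ a) : ∃ q ∈ Q, q • (t • a) = c := by
  obtain ⟨g, hga, hgb⟩ := exists_pair hS (Ne.symm (b_ne hS)) (Ne.symm hc)
  have hg : g ∈ Q ⊔ 𝐃 := by rw [hS.sup_eq]; exact MulAction.mem_stabilizer_iff.2 hga
  have hnorm : (𝐃 : Subgroup G) ≤ Subgroup.normalizer (Q : Set G) := fun d hd =>
    Subgroup.mem_normalizer_iff.2 fun x => ⟨fun hx => hS.conj_mem d (D_le hd) x hx, fun hx => by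
      have := hS.conj_mem d⁻¹ (inv_mem (D_le hd)) _ hx
      simpa [mul_assoc] using this⟩
  rw [← SetLike.mem_coe, Subgroup.coe_mul_of_right_le_normalizer_left Q 𝐃 hnorm] at hg
  obtain ⟨q, hq, d, hd, rfl⟩ := Set.mem_mul.1 hg
  exact ⟨q, hq, by rw [← hgb, mul_smul, smul_b_of_mem_D hd]⟩

theorem eq_one_of_fix {q : G} (hq : q ∈ Q) {c : Ω} (hc : c ≠ a) (h : q • c = c) : q = 1 := by
  obtain ⟨x, hx, rfl⟩ := exists_mem_Q_smul hS hc
  have : x⁻¹ * q * x ∈ Q ⊓ stabilizer G (t • a) := by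
    refine Subgroup.mem_inf.2 ⟨mul_mem (mul_mem (inv_mem hx) hq) hx, MulAction.mem_stabilizer_iff.2 ?_⟩
    rw [mul_smul, mul_smul, h, inv_smul_smul]
  rw [hS.inf_eq_bot, Subgroup.mem_bot] at this
  calc q = x * (x⁻¹ * q * x) * x⁻¹ := by group
    _ = 1 := by rw [this]; group

theorem eq_of_smul_eq {q q' : G} (hq : q ∈ Q) (hq' : q' ∈ Q) {c : Ω} (hc : c ≠ a)
    (h : q • c = q' • c) : q = q' :=
  (inv_mul_eq_one.1 (eq_one_of_fix hS (mul_mem (inv_mem hq') hq) hc (by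
    rw [mul_smul, h, inv_smul_smul]))).symm

theorem smul_a_of_mem_Q {q : G} (hq : q ∈ Q) : q • a = a :=
  MulAction.mem_stabilizer_iff.1 (hS.le hq)

theorem existsUnique_smul (b c : Ω) (hb : b ≠ a) (hc : c ≠ a) : ∃! x : Q, (x : G) • b = c := by
  obtain ⟨x₁, hx₁, rfl⟩ := exists_mem_Q_smul hS hb
  obtain ⟨x₂, hx₂, rfl⟩ := exists_mem_Q_smul hS hc
  refine ⟨⟨x₂ * x₁⁻¹, mul_mem hx₂ (inv_mem hx₁)⟩, by
    show (x₂ * x₁⁻¹) • x₁ • t • a = _
    rw [mul_smul, inv_smul_smul], fun y hy => Subtype.ext ?_⟩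
  refine eq_of_smul_eq hS y.2 (mul_mem hx₂ (inv_mem hx₁)) hb (hy.trans ?_)
  rw [mul_smul, inv_smul_smul]

/-- The decomposition `M = Q D`. -/
theorem exists_mul {g : G} (hg : g ∈ 𝐌) : ∃ q ∈ Q, ∃ d ∈ 𝐃, g = q * d := by
  have hgb : g • (t • a) ≠ a := fun h => b_ne hS
    (smul_left_cancel g (h.trans (MulAction.mem_stabilizer_iff.1 hg).symm))
  obtain ⟨q, hq, hqb⟩ := exists_mem_Q_smul hS hgb
  refine ⟨q, hq, q⁻¹ * g, Subgroup.mem_inf.2 ⟨mul_mem (inv_mem (hS.le hq)) hg, MulAction.mem_stabilizer_iff.2 ?_⟩,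
    by group⟩
  rw [mul_smul, ← hqb, inv_smul_smul]

theorem eq_one_of_mem_Q_D {q : G} (hq : q ∈ Q) (hd : q ∈ 𝐃) : q = 1 :=
  eq_one_of_fix hS hq (b_ne hS) (smul_b_of_mem_D hd)

theorem mul_unique {q q' d d' : G} (hq : q ∈ Q) (hq' : q' ∈ Q) (hd : d ∈ 𝐃) (hd' : d' ∈ 𝐃)
    (h : q * d = q' * d') : q = q' ∧ d = d' := by
  have e : q'⁻¹ * q = d' * d⁻¹ := by
    calc q'⁻¹ * q = q'⁻¹ * (q * d) * d⁻¹ := by group
      _ = d' * d⁻¹ := by rw [h]; group
  have h1 := eq_one_of_mem_Q_D hS (mul_mem (inv_mem hq') hq) (e ▸ mul_mem hd' (inv_mem hd))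
  have hqq : q = q' := (inv_mul_eq_one.1 h1).symm
  exact ⟨hqq, mul_left_cancel (hqq ▸ h)⟩

variable [Finite G]

theorem card_M : Nat.card 𝐌 = Nat.card Q * Nat.card ↥(𝐃) := by
  rw [← Nat.card_prod]
  refine (Nat.card_eq_of_bijective (fun p : Q × ↥(𝐃) =>
    (⟨p.1.1 * p.2.1, mul_mem (hS.le p.1.2) (D_le p.2.2)⟩ : 𝐌)) ⟨fun p r e => ?_, fun g => ?_⟩).symm
  · obtain ⟨e1, e2⟩ := mul_unique hS p.1.2 r.1.2 p.2.2 r.2.2 (congrArg Subtype.val e)
    exact Prod.ext (Subtype.ext e1) (Subtype.ext e2)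
  · obtain ⟨q, hq, d, hd, e⟩ := exists_mul hS g.2
    exact ⟨(⟨q, hq⟩, ⟨d, hd⟩), Subtype.ext e.symm⟩

theorem card_ne_a : Nat.card {c : Ω // c ≠ a} = Nat.card Q :=
  (Nat.card_eq_of_bijective (fun q : Q => (⟨(q : G) • (t • a), fun h => b_ne hS (by
      have h' := congrArg ((q : G)⁻¹ • ·) h
      simpa [inv_smul_smul, smul_a_of_mem_Q hS (inv_mem q.2)] using h')⟩ : {c : Ω // c ≠ a}))
    ⟨fun q r e => Subtype.ext (eq_of_smul_eq hS q.2 r.2 (b_ne hS) (congrArg Subtype.val e)),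
      fun c => by
        obtain ⟨q, hq, e⟩ := exists_mem_Q_smul hS c.2
        exact ⟨⟨q, hq⟩, Subtype.ext e⟩⟩).symm

theorem card_omega : Nat.card Ω = Nat.card Q + 1 := by
  classical
  haveI := finite_omega hS
  haveI := Fintype.ofFinite Ω
  rw [← card_ne_a hS, Nat.card_eq_fintype_card, Nat.card_eq_fintype_card,
    Fintype.card_subtype_compl, Fintype.card_subtype_eq]
  have : 0 < Fintype.card Ω := Fintype.card_pos_iff.2 ⟨a⟩
  omega

theorem card_G : Nat.card G = Nat.card Q * Nat.card ↥(𝐃) * (Nat.card Q + 1) := by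
  haveI : MulAction.IsPretransitive G Ω := ⟨fun x y => by
    obtain ⟨g, hg⟩ := exists_smul_eq' hS x
    obtain ⟨h, hh⟩ := exists_smul_eq' hS y
    exact ⟨h * g⁻¹, by rw [mul_smul, ← hg, inv_smul_smul, hh]⟩⟩
  rw [← card_M hS, ← card_omega hS, ← MulAction.index_stabilizer_of_transitive G a,
    Subgroup.card_mul_index]

theorem two_le_card_Q : 2 ≤ Nat.card Q := by
  obtain ⟨k, hk⟩ := hS.even_card
  have : 0 < Nat.card Q := Nat.card_pos
  omega

theorem mem_Q_of_sq {s : G} (hs : s ∈ 𝐌) (h2 : s * s = 1) : s ∈ Q := by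
  obtain ⟨q, hq, d, hd, rfl⟩ := exists_mul hS hs
  have hdd : d * d ∈ Q := by
    have h1 : d * q⁻¹ * d⁻¹ ∈ Q := hS.conj_mem d (D_le hd) _ (inv_mem hq)
    have : d * d = (d * q⁻¹ * d⁻¹) * q⁻¹ := by
      calc d * d = d * q⁻¹ * ((q * d) * (q * d)) * d⁻¹ * q⁻¹ * (q * d * d * d⁻¹ * d⁻¹ * q⁻¹) := by
            group
        _ = (d * q⁻¹ * d⁻¹) * q⁻¹ := by rw [h2]; group
    rw [this]
    exact mul_mem h1 (inv_mem hq)
  have hd1 : d = 1 := eq_one_of_sq_of_odd hS.odd_card hd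
    (eq_one_of_mem_Q_D hS hdd (mul_mem hd hd))
  rwa [hd1, mul_one]

omit [Finite G] in
theorem fix_unique_of_mem_Q {q : G} (hq : q ∈ Q) (hq1 : q ≠ 1) {c : Ω} (h : q • c = c) : c = a := by
  by_contra hc
  exact hq1 (eq_one_of_fix hS hq hc h)

theorem exists_involution : ∃ s, s ∈ 𝐈 := by
  haveI := Fact.mk Nat.prime_two
  obtain ⟨s, hs⟩ := exists_prime_orderOf_dvd_card' (G := Q) 2 hS.even_card.two_dvd
  rw [← Subgroup.orderOf_coe] at hs
  refine ⟨s, hS.le s.2, fun e => ?_, ?_⟩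
  · rw [e, orderOf_one] at hs; omega
  · rw [← sq, ← hs, pow_orderOf_eq_one]

theorem odd_mul {s u : G} (hs : s ∈ 𝐌) (hs1 : s ≠ 1) (hs2 : s * s = 1) (hu : u ∉ 𝐌)
    (hu2 : u * u = 1) : Odd (orderOf (s * u)) := by
  rw [← Nat.not_even_iff_odd]
  intro he
  obtain ⟨z, hz1, hz2, hzs, hzu⟩ := exists_commute_of_even_orderOf hs2 hu2 he
  have hsQ := mem_Q_of_sq hS hs hs2
  have hza : z • a = a := fix_unique_of_mem_Q hS hsQ hs1 (by
    rw [← mul_smul, ← hzs, mul_smul, smul_a_of_mem_Q hS hsQ])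
  have hzQ := mem_Q_of_sq hS (MulAction.mem_stabilizer_iff.2 hza) hz2
  exact hu (MulAction.mem_stabilizer_iff.2 (fix_unique_of_mem_Q hS hzQ hz1 (by
    rw [← mul_smul, hzu, mul_smul, hza])))

theorem isConj_involution {u : G} (hu1 : u ≠ 1) (hu2 : u * u = 1) :
    ∃ g : G, g * u * g⁻¹ = t := by
  by_cases hu : u ∈ 𝐌
  · obtain ⟨k, hk⟩ := conj_of_odd_orderOf hu2 hS.mul_self
      (odd_mul hS hu hu1 hu2 hS.not_mem hS.mul_self)
    exact ⟨_, hk⟩
  · obtain ⟨s, hs, hs1, hs2⟩ := exists_involution hS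
    obtain ⟨j, hj⟩ := conj_of_odd_orderOf hs2 hu2 (odd_mul hS hs hs1 hs2 hu hu2)
    obtain ⟨k, hk⟩ := conj_of_odd_orderOf hs2 hS.mul_self
      (odd_mul hS hs hs1 hs2 hS.not_mem hS.mul_self)
    refine ⟨(s * t) ^ k * ((s * u) ^ j)⁻¹, ?_⟩
    have hjs : ((s * u) ^ j)⁻¹ * u * (s * u) ^ j = s := by
      calc _ = ((s * u) ^ j)⁻¹ * ((s * u) ^ j * s * ((s * u) ^ j)⁻¹) * (s * u) ^ j := by rw [hj]
        _ = s := by group
    calc _ = (s * t) ^ k * (((s * u) ^ j)⁻¹ * u * (s * u) ^ j) * ((s * t) ^ k)⁻¹ := by group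
      _ = t := by rw [hjs, hk]

theorem isConj_involutions {u v : G} (hu1 : u ≠ 1) (hu2 : u * u = 1) (hv1 : v ≠ 1)
    (hv2 : v * v = 1) : ∃ g : G, g * u * g⁻¹ = v := by
  obtain ⟨g, hg⟩ := isConj_involution hS hu1 hu2
  obtain ⟨h, hh⟩ := isConj_involution hS hv1 hv2
  refine ⟨h⁻¹ * g, ?_⟩
  calc _ = h⁻¹ * (g * u * g⁻¹) * h := by group
    _ = v := by rw [hg, ← hh]; group

/-- Every involution fixes exactly one point. -/
theorem existsUnique_fix {u : G} (hu1 : u ≠ 1) (hu2 : u * u = 1) : ∃! c : Ω, u • c = c := by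
  obtain ⟨s, hs, hs1, hs2⟩ := exists_involution hS
  obtain ⟨g, rfl⟩ := isConj_involutions hS hs1 hs2 hu1 hu2
  refine ⟨g • a, ?_, fun c hc => ?_⟩
  · show (g * s * g⁻¹) • g • a = g • a
    rw [mul_smul, inv_smul_smul, mul_smul, MulAction.mem_stabilizer_iff.1 hs]
  · have := fix_unique_of_mem_Q hS (mem_Q_of_sq hS hs hs2) hs1 (c := g⁻¹ • c) (by
      have h' := congrArg (g⁻¹ • ·) hc
      simpa [mul_smul] using h')
    rw [← this, smul_inv_smul]

theorem odd_mul_of_fix_ne {z u : G} {p : Ω} (hz1 : z ≠ 1) (hz2 : z * z = 1) (hu2 : u * u = 1)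
    (hzp : z • p = p) (hup : u • p ≠ p) : Odd (orderOf (z * u)) := by
  obtain ⟨g, hg⟩ := exists_smul_eq' hS p
  have h := odd_mul hS (s := g⁻¹ * z * g) (u := g⁻¹ * u * g)
    (MulAction.mem_stabilizer_iff.2 (by rw [mul_smul, mul_smul, hg, hzp, ← hg, inv_smul_smul]))
    (fun e => hz1 (by
      calc z = g * (g⁻¹ * z * g) * g⁻¹ := by group
        _ = 1 := by rw [e]; group))
    (by calc _ = g⁻¹ * (z * z) * g := by group
          _ = 1 := by rw [hz2]; group)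
    (fun h => hup (by
      rw [MulAction.mem_stabilizer_iff, mul_smul, mul_smul, hg, inv_smul_eq_iff, hg] at h
      exact h))
    (by calc _ = g⁻¹ * (u * u) * g := by group
          _ = 1 := by rw [hu2]; group)
  rwa [show g⁻¹ * z * g * (g⁻¹ * u * g) = MulAut.conj g⁻¹ (z * u) by
    rw [MulAut.conj_apply]; group, MulEquiv.orderOf_eq] at h

/-- An element inverted by an involution and centralised by an involution with another fixed point
squares to one. -/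
theorem sq_eq_one_of_fix_ne {z u x : G} {p : Ω} (hz1 : z ≠ 1) (hz2 : z * z = 1) (hu2 : u * u = 1)
    (hzp : z • p = p) (hup : u • p ≠ p) (hzx : z * x = x * z) (hux : u * x * u⁻¹ = x⁻¹) :
    x * x = 1 :=
  sq_eq_one_of_centralize_invert hz2 hu2 (odd_mul_of_fix_ne hS hz1 hz2 hu2 hzp hup) hzx hux

/-! ### The inverted set -/

local notation "𝐊" => Cfsg.invertedBy (stabilizer G a ⊓ stabilizer G (t • a)) t

omit [Finite G] in
theorem mem_K_iff {k : G} :
    k ∈ 𝐊 ↔ t * k ≠ 1 ∧ (t * k) * (t * k) = 1 ∧ (t * k) • a = t • a := by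
  have htt := t_inv hS
  constructor
  · rintro ⟨⟨hka, -⟩, hk⟩
    rw [htt] at hk
    refine ⟨fun e => hS.not_mem ?_, ?_, by
      rw [mul_smul, MulAction.mem_stabilizer_iff.1 hka]⟩
    · rw [mul_eq_one_iff_eq_inv.1 e]; exact inv_mem hka
    · rw [← mul_assoc, hk, inv_mul_cancel]
  · rintro ⟨-, h2, ha⟩
    have hka : k • a = a := by rw [mul_smul] at ha; exact smul_left_cancel t ha
    refine ⟨⟨MulAction.mem_stabilizer_iff.2 hka, MulAction.mem_stabilizer_iff.2 ?_⟩, ?_⟩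
    · have h' : (t * k) • (t • a) = a := by
        rw [← ha, ← mul_smul, h2, one_smul]
      rw [mul_smul] at h'
      conv at h' => rhs; rw [← t_smul_b hS]
      exact smul_left_cancel t h'
    · rw [htt]
      exact eq_inv_of_mul_eq_one_left (by rwa [← mul_assoc] at h2)

theorem eq_of_conj_eq {s k₁ k₂ : G} (hs : s ∈ 𝐈) (h₁ : k₁ ∈ 𝐊) (h₂ : k₂ ∈ 𝐊)
    (h : k₁⁻¹ * s * k₁ = k₂⁻¹ * s * k₂) : k₁ = k₂ := by
  obtain ⟨⟨h1D, h1⟩, ⟨h2D, h2⟩⟩ := h₁, h₂
  rw [t_inv hS] at h1 h2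
  set x := k₂ * k₁⁻¹ with hx
  have hsx : s * x = x * s := by
    calc s * x = k₂ * (k₂⁻¹ * s * k₂) * k₁⁻¹ := by rw [hx]; group
      _ = x * s := by rw [← h, hx]; group
  have hu2 : (k₁ * t) * (k₁ * t) = 1 := by
    calc (k₁ * t) * (k₁ * t) = k₁ * (t * k₁ * t) := by group
      _ = 1 := by rw [h1]; group
  have hux : (k₁ * t) * x * (k₁ * t)⁻¹ = x⁻¹ := by
    have htx : t * x * t⁻¹ = k₂⁻¹ * k₁ := by
      calc t * x * t⁻¹ = (t * k₂ * t⁻¹) * (t * k₁ * t⁻¹)⁻¹ := by rw [hx]; group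
        _ = k₂⁻¹ * k₁ := by rw [t_inv hS, h1, h2, inv_inv]
    calc (k₁ * t) * x * (k₁ * t)⁻¹ = k₁ * (t * x * t⁻¹) * k₁⁻¹ := by group
      _ = x⁻¹ := by rw [htx, hx]; group
  have hup : (k₁ * t) • a ≠ a := by
    rw [mul_smul, smul_b_of_mem_D h1D]; exact b_ne hS
  have hx1 : x = 1 := eq_one_of_sq_of_odd hS.odd_card (mul_mem h2D (inv_mem h1D))
    (sq_eq_one_of_fix_ne hS hs.2.1 hs.2.2 hu2 (MulAction.mem_stabilizer_iff.1 hs.1) hup hsx hux)
  exact (mul_inv_eq_one.1 hx1).symm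

theorem card_K : Nat.card ↥(𝐊) = Nat.card ↥(𝐈) := by
  classical
  haveI := finite_omega hS
  haveI := Fintype.ofFinite Ω
  haveI := Fintype.ofFinite G
  let U := {u : G // u ≠ 1 ∧ u * u = 1}
  let fp : U → Ω := fun u => (existsUnique_fix hS u.2.1 u.2.2).choose
  have hfp : ∀ (u : U) (c : Ω), fp u = c ↔ u.1 • c = c := fun u c =>
    ⟨fun h => h ▸ (existsUnique_fix hS u.2.1 u.2.2).choose_spec.1,
      fun h => ((existsUnique_fix hS u.2.1 u.2.2).choose_spec.2 c h).symm⟩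
  let mv : U → Ω := fun u => u.1 • a
  set m := Nat.card ↥(𝐈) with hm
  have e1 : ∀ p : Ω, Nat.card {u : U // fp u = p} = m := by
    intro p
    obtain ⟨g, rfl⟩ := exists_smul_eq' hS p
    refine Nat.card_eq_of_bijective (fun u => (⟨g⁻¹ * u.1.1 * g, MulAction.mem_stabilizer_iff.2 (by
        rw [mul_smul, mul_smul, (hfp _ _).1 u.2, inv_smul_smul]), fun e => u.1.2.1 (by
        calc u.1.1 = g * (g⁻¹ * u.1.1 * g) * g⁻¹ := by group
          _ = 1 := by rw [e]; group),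
        by calc _ = g⁻¹ * (u.1.1 * u.1.1) * g := by group
             _ = 1 := by rw [u.1.2.2]; group⟩ : ↥(𝐈))) ⟨fun u v e => ?_, fun s => ?_⟩
    · have e' := congrArg Subtype.val e
      exact Subtype.ext (Subtype.ext (mul_left_cancel (mul_right_cancel e')))
    · refine ⟨⟨⟨g * s.1 * g⁻¹, fun e => s.2.2.1 ?_, ?_⟩, (hfp _ _).2 ?_⟩, Subtype.ext ?_⟩
      · calc s.1 = g⁻¹ * (g * s.1 * g⁻¹) * g := by group
          _ = 1 := by rw [e]; group
      · calc _ = g * (s.1 * s.1) * g⁻¹ := by group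
          _ = 1 := by rw [s.2.2.2]; group
      · show (g * s.1 * g⁻¹) • g • a = g • a
        rw [mul_smul, inv_smul_smul, mul_smul, MulAction.mem_stabilizer_iff.1 s.2.1]
      · show g⁻¹ * (g * s.1 * g⁻¹) * g = s.1
        group
  have e2 : ∀ c : {c : Ω // c ≠ a}, Nat.card {u : U // mv u = c.1} = Nat.card ↥(𝐊) := by
    intro c
    obtain ⟨q, hq, hqc⟩ := exists_mem_Q_smul hS c.2
    have hqi := smul_a_of_mem_Q hS (inv_mem hq)
    refine (Nat.card_eq_of_bijective (fun k => (⟨⟨q * (t * k.1) * q⁻¹, fun e =>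
        ((mem_K_iff hS).1 k.2).1 (by
          calc t * k.1 = q⁻¹ * (q * (t * k.1) * q⁻¹) * q := by group
            _ = 1 := by rw [e]; group), by
        calc _ = q * ((t * k.1) * (t * k.1)) * q⁻¹ := by group
          _ = 1 := by rw [((mem_K_iff hS).1 k.2).2.1]; group⟩, by
        show (q * (t * k.1) * q⁻¹) • a = _
        rw [mul_smul, hqi, mul_smul, ((mem_K_iff hS).1 k.2).2.2, hqc]⟩ :
        {u : U // mv u = c.1})) ⟨fun k l e => ?_, fun u => ?_⟩).symm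
    · have e' := congrArg (fun u => u.1.1) e
      exact Subtype.ext (mul_left_cancel (mul_left_cancel (mul_right_cancel e')))
    · set k := t * (q⁻¹ * u.1.1 * q) with hk
      have htk : t * k = q⁻¹ * u.1.1 * q := by rw [hk, ← mul_assoc, hS.mul_self, one_mul]
      refine ⟨⟨k, (mem_K_iff hS).2 ⟨fun e => u.1.2.1 ?_, ?_, ?_⟩⟩,
        Subtype.ext (Subtype.ext ?_)⟩
      · rw [htk] at e
        calc u.1.1 = q * (q⁻¹ * u.1.1 * q) * q⁻¹ := by group
          _ = 1 := by rw [e]; group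
      · rw [htk]
        calc _ = q⁻¹ * (u.1.1 * u.1.1) * q := by group
          _ = 1 := by rw [u.1.2.2]; group
      · rw [htk, mul_smul, smul_a_of_mem_Q hS hq, mul_smul, show u.1.1 • a = c.1 from u.2,
          ← hqc, inv_smul_smul]
      · show q * (t * k) * q⁻¹ = u.1.1
        rw [htk]; group
  have e3 : Nat.card {u : U // mv u = a} = m := by
    refine Nat.card_congr
      { toFun := fun u => ⟨u.1.1, MulAction.mem_stabilizer_iff.2 u.2, u.1.2⟩
        invFun := fun s => ⟨⟨s.1, s.2.2⟩, MulAction.mem_stabilizer_iff.1 s.2.1⟩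
        left_inv := fun _ => rfl
        right_inv := fun _ => rfl }
  have c1 : Nat.card U = Fintype.card Ω * m := by
    rw [← Nat.card_congr (Equiv.sigmaFiberEquiv fp), Nat.card_sigma, Finset.sum_congr rfl
      fun p _ => e1 p, Finset.sum_const, Finset.card_univ, smul_eq_mul]
  have c2 : Nat.card U = Nat.card Q * Nat.card ↥(𝐊) + m := by
    rw [← Nat.card_congr (Equiv.sigmaFiberEquiv mv), Nat.card_sigma,
      ← Finset.sum_erase_add _ _ (Finset.mem_univ a), e3,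
      Finset.sum_congr rfl (fun p hp => e2 ⟨p, (Finset.mem_erase.1 hp).1⟩), Finset.sum_const,
      smul_eq_mul, Finset.card_erase_of_mem (Finset.mem_univ a), Finset.card_univ,
      ← Nat.card_eq_fintype_card (α := Ω), card_omega hS, Nat.add_sub_cancel]
  rw [← Nat.card_eq_fintype_card (α := Ω), card_omega hS] at c1
  have : Nat.card Q * Nat.card ↥(𝐊) = Nat.card Q * m := by
    rw [c1, add_one_mul] at c2
    omega
  exact Nat.eq_of_mul_eq_mul_left Nat.card_pos this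

theorem exists_conj_K {s s' : G} (hs : s ∈ 𝐈) (hs' : s' ∈ 𝐈) :
    ∃ k ∈ 𝐊, k⁻¹ * s * k = s' := by
  have hf : Function.Bijective (fun k : ↥(𝐊) => (⟨k.1⁻¹ * s * k.1,
      mul_mem (mul_mem (inv_mem (D_le k.2.1)) hs.1) (D_le k.2.1), fun e => hs.2.1 (by
        calc s = k.1 * (k.1⁻¹ * s * k.1) * k.1⁻¹ := by group
          _ = 1 := by rw [e]; group),
      by calc _ = k.1⁻¹ * (s * s) * k.1 := by group
           _ = 1 := by rw [hs.2.2]; group⟩ : ↥(𝐈))) :=
    (Nat.bijective_iff_injective_and_card _).2 ⟨fun k l e =>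
      Subtype.ext (eq_of_conj_eq hS hs k.2 l.2 (congrArg Subtype.val e)), card_K hS⟩
  obtain ⟨k, hk⟩ := hf.2 ⟨s', hs'⟩
  exact ⟨k.1, k.2, congrArg Subtype.val hk⟩

end CfsgLib.RankOneSetup
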