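/-
Structure equation, fixed-point sets of subsets of the two-point stabiliser, cores and nilpotency in
the rank-one set-up.
-/
import Cfsg.Agent.Lib.RankOneSetup.Basic
import Cfsg.Agent.Lib.Cores.Basic
import Cfsg.Agent.Lib.Solvable.Generation
import Cfsg.Agent.Lib.Solvable.Nilpotent
import Cfsg.Agent.Lib.FGS.ThompsonKernel

set_option autoImplicit false

namespace CfsgLib.RankOneSetup

open MulAction (stabilizer)

variable {G Ω : Type*} [Group G] [MulAction G Ω] {a : Ω} {t : G} {Q : Subgroup G}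
  (hS : Cfsg.IsRankOneSetup G Ω a t Q)

local notation "𝐌" => stabilizer G a
local notation "𝐃" => stabilizer G a ⊓ stabilizer G (t • a)
local notation "𝐈" => Cfsg.involutionsIn (stabilizer G a : Set G)
local notation "𝐊" => Cfsg.invertedBy (stabilizer G a ⊓ stabilizer G (t • a)) t

include hS

theorem smul_ne_of_mem_M {m : G} (hm : m ∈ 𝐌) {c : Ω} (hc : c ≠ a) : m • c ≠ a := fun h =>
  hc (smul_left_cancel m (h.trans (MulAction.mem_stabilizer_iff.1 hm).symm))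

/-- `C_Q(X)` is transitive on the fixed points of `X` other than `a`, for `X` inside `G_a`. -/
theorem exists_Q_centralizer {X : Set G} (hX : X ⊆ (𝐌 : Set G)) {c c' : Ω} (hc : c ≠ a)
    (hc' : c' ≠ a) (hf : ∀ x ∈ X, x • c = c) (hf' : ∀ x ∈ X, x • c' = c') :
    ∃ q ∈ Q, q ∈ Subgroup.centralizer X ∧ q • c = c' := by
  obtain ⟨⟨q, hq⟩, hqc, -⟩ := existsUnique_smul hS c c' hc hc'
  simp only at hqc
  refine ⟨q, hq, Subgroup.mem_centralizer_iff.2 fun x hx => ?_, hqc⟩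
  have hxi : x⁻¹ • c = c := inv_smul_eq_iff.2 (hf x hx).symm
  have : x * q * x⁻¹ = q := eq_of_smul_eq hS (hS.conj_mem x (hX hx) q hq) hq hc (by
    rw [mul_smul, mul_smul, hxi, hqc, hf' x hx])
  exact mul_inv_eq_iff_eq_mul.1 this

/-- The centraliser of `X` can fix one common fixed point and move another one to any further one. -/
theorem exists_centralizer_fix {X : Set G} {p c c' : Ω} (hc : c ≠ p) (hc' : c' ≠ p)
    (hp : ∀ x ∈ X, x • p = p) (hf : ∀ x ∈ X, x • c = c) (hf' : ∀ x ∈ X, x • c' = c') :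
    ∃ g ∈ Subgroup.centralizer X, g • p = p ∧ g • c = c' := by
  obtain ⟨g₀, hg₀⟩ := exists_smul_eq' hS p
  have hconj : ∀ {d : Ω}, (∀ x ∈ X, x • d = d) →
      ∀ y ∈ (fun x => g₀⁻¹ * x * g₀) '' X, y • (g₀⁻¹ • d) = g₀⁻¹ • d := by
    rintro d hd _ ⟨x, hx, rfl⟩
    rw [mul_smul, mul_smul, smul_inv_smul, hd x hx]
  have hga : g₀⁻¹ • p = a := inv_smul_eq_iff.2 hg₀.symm
  have hne : ∀ {d : Ω}, d ≠ p → g₀⁻¹ • d ≠ a := fun hd h =>
    hd (smul_left_cancel g₀⁻¹ (h.trans hga.symm))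
  obtain ⟨q, hq, hqX, hqc⟩ := exists_Q_centralizer hS
    (X := (fun x => g₀⁻¹ * x * g₀) '' X)
    (fun y hy => MulAction.mem_stabilizer_iff.2 (by simpa [hga] using hconj hp y hy))
    (hne hc) (hne hc') (hconj hf) (hconj hf')
  refine ⟨g₀ * q * g₀⁻¹, Subgroup.mem_centralizer_iff.2 fun x hx => ?_, ?_, ?_⟩
  · have h := Subgroup.mem_centralizer_iff.1 hqX _ ⟨x, hx, rfl⟩
    calc x * (g₀ * q * g₀⁻¹) = g₀ * ((g₀⁻¹ * x * g₀) * q) * g₀⁻¹ := by group
      _ = g₀ * q * g₀⁻¹ * x := by rw [h]; group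
  · rw [mul_smul, mul_smul, hga, smul_a_of_mem_Q hS hq, hg₀]
  · rw [mul_smul, mul_smul, hqc, smul_inv_smul]

theorem centralizer_transitive {X : Set G}
    (h3 : ∃ b c d : Ω, b ≠ c ∧ b ≠ d ∧ c ≠ d ∧ ∀ x ∈ X, x • b = b ∧ x • c = c ∧ x • d = d)
    {p p' : Ω} (hp : ∀ x ∈ X, x • p = p) (hp' : ∀ x ∈ X, x • p' = p') :
    ∃ g ∈ Subgroup.centralizer X, g • p = p' := by
  by_cases h : p = p'
  · exact ⟨1, one_mem _, by rw [one_smul, h]⟩
  obtain ⟨b, c, d, hbc, hbd, hcd, hf⟩ := h3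
  obtain ⟨w, hw, hw1, hw2⟩ : ∃ w : Ω, (∀ x ∈ X, x • w = w) ∧ p ≠ w ∧ p' ≠ w := by
    by_cases h1 : p = b ∨ p' = b
    · by_cases h2 : p = c ∨ p' = c
      · refine ⟨d, fun x hx => (hf x hx).2.2, fun e => ?_, fun e => ?_⟩
        · rcases h1 with h1 | h1
          · exact hbd (h1.symm.trans e)
          · rcases h2 with h2 | h2
            · exact hcd (h2.symm.trans e)
            · exact hbc (h1.symm.trans h2)
        · rcases h1 with h1 | h1
          · rcases h2 with h2 | h2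
            · exact hbc (h1.symm.trans h2)
            · exact hcd (h2.symm.trans e)
          · exact hbd (h1.symm.trans e)
      · exact ⟨c, fun x hx => (hf x hx).2.1, fun e => h2 (Or.inl e), fun e => h2 (Or.inr e)⟩
    · exact ⟨b, fun x hx => (hf x hx).1, fun e => h1 (Or.inl e), fun e => h1 (Or.inr e)⟩
  obtain ⟨g, hg, -, hgp⟩ := exists_centralizer_fix hS hw1 hw2 hw hp hp'
  exact ⟨g, hg, hgp⟩

theorem centralizer_two_transitive {X : Set G}
    (h3 : ∃ b c d : Ω, b ≠ c ∧ b ≠ d ∧ c ≠ d ∧ ∀ x ∈ X, x • b = b ∧ x • c = c ∧ x • d = d)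
    {b₁ b₂ c₁ c₂ : Ω}
    (hfix : ∀ x ∈ X, x • b₁ = b₁ ∧ x • b₂ = b₂ ∧ x • c₁ = c₁ ∧ x • c₂ = c₂)
    (hb : b₁ ≠ b₂) (hc : c₁ ≠ c₂) :
    ∃ g ∈ Subgroup.centralizer X, g • b₁ = c₁ ∧ g • b₂ = c₂ := by
  obtain ⟨g₁, hg₁, h1⟩ := centralizer_transitive hS h3 (p := b₁) (p' := c₁)
    (fun x hx => (hfix x hx).1) (fun x hx => (hfix x hx).2.2.1)
  have hne : g₁ • b₂ ≠ c₁ := fun e => hb (smul_left_cancel g₁ (h1.trans e.symm))
  obtain ⟨g₂, hg₂, h2, h2'⟩ := exists_centralizer_fix hS (X := X) hne hc.symm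
    (fun x hx => (hfix x hx).2.2.1)
    (fun x hx => by
      rw [← mul_smul, Subgroup.mem_centralizer_iff.1 hg₁ x hx, mul_smul, (hfix x hx).2.1])
    (fun x hx => (hfix x hx).2.2.2)
  exact ⟨g₂ * g₁, mul_mem hg₂ hg₁, by rw [mul_smul, h1, h2], by rw [mul_smul, h2']⟩

variable [Finite G]

theorem exists_swap_centralizer {X : Set G} (hX : X ⊆ (𝐃 : Set G))
    (h3 : ∃ b c d : Ω, b ≠ c ∧ b ≠ d ∧ c ≠ d ∧ ∀ x ∈ X, x • b = b ∧ x • c = c ∧ x • d = d) :
    ∃ j ∈ Subgroup.centralizer X, j ≠ 1 ∧ j * j = 1 ∧ j • a = t • a := by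
  have hfa : ∀ x ∈ X, x • a = a := fun x hx => smul_a_of_mem_D (hX hx)
  have hfb : ∀ x ∈ X, x • (t • a) = t • a := fun x hx => smul_b_of_mem_D (hX hx)
  obtain ⟨g, hg, hga, hgb⟩ := centralizer_two_transitive hS h3 (b₁ := a) (b₂ := t • a)
    (c₁ := t • a) (c₂ := a) (fun x hx => ⟨hfa x hx, hfb x hx, hfb x hx, hfa x hx⟩)
    (b_ne hS).symm (b_ne hS)
  have hd : g * g ∈ 𝐃 := Subgroup.mem_inf.2
    ⟨MulAction.mem_stabilizer_iff.2 (by rw [mul_smul, hga, hgb]),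
      MulAction.mem_stabilizer_iff.2 (by rw [mul_smul, hgb, hga])⟩
  obtain ⟨k, hk⟩ := hS.odd_card
  set j := g ^ Nat.card ↥(𝐃) with hj
  have hja : j • a = t • a := by
    rw [hj, hk, pow_succ, mul_smul, hga, pow_mul, sq]
    exact smul_b_of_mem_D (pow_mem hd k)
  refine ⟨j, pow_mem hg _, fun e => b_ne hS ?_, ?_, hja⟩
  · rw [← hja, e, one_smul]
  · rw [hj, ← (Commute.refl g).mul_pow]
    exact congrArg Subtype.val (pow_card_eq_one' (G := ↥(𝐃)) (x := ⟨g * g, hd⟩))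

theorem exists_involution_centralizer {X : Set G} (hX : X ⊆ (𝐃 : Set G))
    (h3 : ∃ b c d : Ω, b ≠ c ∧ b ≠ d ∧ c ≠ d ∧ ∀ x ∈ X, x • b = b ∧ x • c = c ∧ x • d = d) :
    ∃ s ∈ Subgroup.centralizer X, s ∈ 𝐈 := by
  obtain ⟨j, hj, hj1, hj2, -⟩ := exists_swap_centralizer hS hX h3
  obtain ⟨c, hc, hcu⟩ := existsUnique_fix hS hj1 hj2
  have hcX : ∀ x ∈ X, x • c = c := fun x hx => hcu _ (by
    show j • x • c = x • c
    rw [← mul_smul, ← Subgroup.mem_centralizer_iff.1 hj x hx, mul_smul, hc])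
  obtain ⟨g, hg, hgc⟩ := centralizer_transitive hS h3 hcX
    (fun x hx => smul_a_of_mem_D (hX hx))
  refine ⟨g * j * g⁻¹, mul_mem (mul_mem hg hj) (inv_mem hg),
    MulAction.mem_stabilizer_iff.2 ?_, fun e => hj1 ?_, ?_⟩
  · rw [← hgc, mul_smul, inv_smul_smul, mul_smul, hc]
  · calc j = g⁻¹ * (g * j * g⁻¹) * g := by group
      _ = 1 := by rw [e]; group
  · calc _ = g * (j * j) * g⁻¹ := by group
      _ = 1 := by rw [hj2]; group

theorem even_centralizer {X : Set G} (hX : X ⊆ (𝐃 : Set G))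
    (h3 : ∃ b c d : Ω, b ≠ c ∧ b ≠ d ∧ c ≠ d ∧ ∀ x ∈ X, x • b = b ∧ x • c = c ∧ x • d = d) :
    Even (Nat.card ↥(Subgroup.centralizer X ⊓ Q)) := by
  obtain ⟨s, hs, hsM, hs1, hs2⟩ := exists_involution_centralizer hS hX h3
  have hmem : s ∈ Subgroup.centralizer X ⊓ Q := Subgroup.mem_inf.2 ⟨hs, mem_Q_of_sq hS hsM hs2⟩
  have h := orderOf_dvd_natCard (⟨s, hmem⟩ : ↥(Subgroup.centralizer X ⊓ Q))
  rw [Subgroup.orderOf_mk, orderOf_eq_prime (p := 2) (by rw [sq]; exact hs2) hs1] at h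
  exact even_iff_two_dvd.2 h

omit [Finite G] in
theorem centralizer_M_eq {X : Set G} (hX : X ⊆ (𝐃 : Set G)) :
    (Subgroup.centralizer X ⊓ Q) ⊔ (Subgroup.centralizer X ⊓ (𝐃)) =
      Subgroup.centralizer X ⊓ 𝐌 := by
  refine le_antisymm (sup_le (inf_le_inf le_rfl hS.le) (inf_le_inf le_rfl inf_le_left))
    fun g hg => ?_
  obtain ⟨hgX, hgM⟩ := Subgroup.mem_inf.1 hg
  obtain ⟨q, hq, hqX, hqb⟩ := exists_Q_centralizer hS (fun x hx => D_le (hX hx)) (b_ne hS)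
    (smul_ne_of_mem_M hS hgM (b_ne hS)) (fun x hx => smul_b_of_mem_D (hX hx))
    (fun x hx => by
      rw [← mul_smul, Subgroup.mem_centralizer_iff.1 hgX x hx, mul_smul,
        smul_b_of_mem_D (hX hx)])
  rw [show g = q * (q⁻¹ * g) by group]
  refine mul_mem (Subgroup.mem_sup_left (Subgroup.mem_inf.2 ⟨hqX, hq⟩)) (Subgroup.mem_sup_right
    (Subgroup.mem_inf.2 ⟨mul_mem (inv_mem hqX) hgX, Subgroup.mem_inf.2
      ⟨mul_mem (inv_mem (hS.le hq)) hgM, MulAction.mem_stabilizer_iff.2 ?_⟩⟩))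
  rw [mul_smul, ← hqb, inv_smul_smul]

theorem sqrt_K {k : G} (hk : k ∈ 𝐊) :
    ∃ h ∈ 𝐊, h * h = k := by
  refine ⟨k ^ ((Nat.card ↥(𝐃) + 1) / 2), ⟨pow_mem hk.1 _, ?_⟩, sqrt_odd hS.odd_card hk.1⟩
  rw [← conj_pow, hk.2, inv_pow]

/-- Involutions exchanging `a` and `t • a` are conjugate to `t` under an element of `D`. -/
theorem exists_D_conj_t {j : G} (hj1 : j ≠ 1) (hj2 : j * j = 1) (hja : j • a = t • a) :
    ∃ h ∈ 𝐃, h * j * h⁻¹ = t := by
  have htj : t * (t * j) = j := by rw [← mul_assoc, hS.mul_self, one_mul]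
  obtain ⟨h, hh, hhk⟩ := sqrt_K hS ((mem_K_iff hS).2
    ⟨by rwa [htj], by rwa [htj], by rwa [htj]⟩ : t * j ∈ 𝐊)
  refine ⟨h, hh.1, ?_⟩
  calc h * j * h⁻¹ = h * (t * (h * h)) * h⁻¹ := by rw [hhk, htj]
    _ = h * (t * h * t⁻¹) * t := by group
    _ = t := by rw [hh.2]; group

theorem exists_conj_into_V {X : Set G} (hX : X ⊆ (𝐃 : Set G))
    (h3 : ∃ b c d : Ω, b ≠ c ∧ b ≠ d ∧ c ≠ d ∧ ∀ x ∈ X, x • b = b ∧ x • c = c ∧ x • d = d) :
    ∃ k ∈ 𝐃, ∀ x ∈ X, (k * x * k⁻¹) * t = t * (k * x * k⁻¹) := by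
  obtain ⟨j, hj, hj1, hj2, hja⟩ := exists_swap_centralizer hS hX h3
  obtain ⟨h, hh, hht⟩ := exists_D_conj_t hS hj1 hj2 hja
  refine ⟨h, hh, fun x hx => ?_⟩
  calc h * x * h⁻¹ * t = h * x * h⁻¹ * (h * j * h⁻¹) := by rw [hht]
    _ = h * (x * j) * h⁻¹ := by group
    _ = (h * j * h⁻¹) * (h * x * h⁻¹) := by rw [Subgroup.mem_centralizer_iff.1 hj x hx]; group
    _ = t * (h * x * h⁻¹) := by rw [hht]

theorem exists_fix_t : ∃ c : Ω, t • c = c ∧ c ≠ a ∧ c ≠ t • a := by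
  obtain ⟨c, hc, -⟩ := existsUnique_fix hS hS.ne_one hS.mul_self
  refine ⟨c, hc, fun e => b_ne hS (e ▸ hc), fun e => b_ne hS ?_⟩
  rw [e, t_smul_b hS] at hc
  exact hc.symm

/-- The structure equation. -/
theorem existsUnique_structure :
    ∃! p : G × G, p.1 ∈ 𝐈 ∧ p.2 ∈ Q ∧ t * p.1 * t = p.2⁻¹ * t * p.2 := by
  obtain ⟨c, hc, hca, -⟩ := exists_fix_t hS
  obtain ⟨r, hr, hrb⟩ := exists_mem_Q_smul hS hca
  have htt := hS.mul_self
  have key : ∀ u : G, t * (t * u * t) * t = u := fun u => by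
    rw [show t * (t * u * t) * t = (t * t) * u * (t * t) by simp only [mul_assoc], htt, one_mul,
      mul_one]
  have huniq : ∀ s' r' : G, s' ∈ 𝐈 → r' ∈ Q → t * s' * t = r'⁻¹ * t * r' → r' = r := by
    intro s' r' hs' hr' e
    refine eq_of_smul_eq hS hr' hr (b_ne hS) ?_
    rw [hrb]
    refine (existsUnique_fix hS hS.ne_one htt).unique ?_ hc
    have h1 : (r'⁻¹ * t * r') • (t • a) = t • a := by
      rw [← e, mul_smul, t_smul_b hS, mul_smul, MulAction.mem_stabilizer_iff.1 hs'.1]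
    rw [mul_smul, mul_smul, inv_smul_eq_iff] at h1
    exact h1
  refine ⟨(t * (r⁻¹ * t * r) * t, r), ⟨⟨MulAction.mem_stabilizer_iff.2 ?_, fun e => hS.ne_one ?_,
    ?_⟩, hr, key _⟩, ?_⟩
  · rw [mul_smul, mul_smul, mul_smul, mul_smul, hrb, hc, ← hrb, inv_smul_smul, t_smul_b hS]
  · have h := key (r⁻¹ * t * r)
    simp only at e
    rw [e, mul_one, htt] at h
    calc t = r * (r⁻¹ * t * r) * r⁻¹ := by group
      _ = 1 := by rw [← h]; group
  · calc t * (r⁻¹ * t * r) * t * (t * (r⁻¹ * t * r) * t) =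
        t * (r⁻¹ * t * r) * (t * t) * (r⁻¹ * t * r) * t := by simp only [mul_assoc]
      _ = t * (r⁻¹ * t * r) * (r⁻¹ * t * r) * t := by rw [htt, mul_one]
      _ = t * (r⁻¹ * (t * t) * r) * t := by group
      _ = 1 := by rw [htt, mul_one, inv_mul_cancel, mul_one, htt]
  · rintro ⟨s', r'⟩ ⟨hs', hr', e⟩
    obtain rfl := huniq s' r' hs' hr' e
    simp only at e
    refine Prod.ext ?_ rfl
    show s' = t * (r'⁻¹ * t * r') * t
    rw [← e, key]

/-- In the structure equation `C_D(t) = C_D(s)`. -/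
theorem centralizer_structure {s r : G} (hs : s ∈ 𝐈) (hr : r ∈ Q)
    (e : t * s * t = r⁻¹ * t * r) {d : G} (hd : d ∈ 𝐃) : d * t = t * d ↔ d * s = s * d := by
  have htt := hS.mul_self
  obtain ⟨ht1, hs1⟩ := And.intro hS.ne_one hs.2.1
  have htu : r * (t * s * t) * r⁻¹ = t := by rw [e]; group
  have hcomm : ∀ {d' : G}, d' ∈ 𝐃 → d' * (t * s * t) = (t * s * t) * d' →
      d' * r = r * d' ∧ d' * t = t * d' := by
    intro d' hd' h
    have hd'a := smul_a_of_mem_D hd'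
    set u := t * s * t with hu
    have hr'Q : d' * r * d'⁻¹ ∈ Q := hS.conj_mem d' (D_le hd') r hr
    have hua : u • a ≠ a := fun hh => b_ne hS (by
      have hu1 : u ≠ 1 := fun e1 => ht1 (by rw [← htu, e1, mul_one, mul_inv_cancel])
      have hu2 : u * u = 1 := by
        calc u * u = t * (s * (t * t) * s) * t := by rw [hu]; simp only [mul_assoc]
          _ = 1 := by rw [htt, mul_one, hs.2.2, mul_one, htt]
      refine (existsUnique_fix hS hu1 hu2).unique ?_ hh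
      rw [hu, mul_smul, t_smul_b hS, mul_smul, MulAction.mem_stabilizer_iff.1 hs.1])
    clear_value u
    have h1 : r • (u • a) = t • a := by
      conv_rhs => rw [← htu]
      rw [mul_smul, mul_smul, inv_smul_eq_iff.2 (smul_a_of_mem_Q hS hr).symm]
    have h2 : (d' * r * d'⁻¹) • (u • a) = t • a := by
      rw [mul_smul, mul_smul, show d'⁻¹ • u • a = u • a from inv_smul_eq_iff.2 (by
        rw [← mul_smul, h, mul_smul, hd'a]), h1, smul_b_of_mem_D hd']
    have hrr : d' * r * d'⁻¹ = r := eq_of_smul_eq hS hr'Q hr hua (h2.trans h1.symm)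
    have hrr' : d' * r = r * d' := mul_inv_eq_iff_eq_mul.1 hrr
    refine ⟨hrr', mul_inv_eq_iff_eq_mul.1 ?_⟩
    calc d' * t * d'⁻¹ = (d' * r * d'⁻¹) * (d' * u * d'⁻¹) * (d' * r * d'⁻¹)⁻¹ := by
          rw [← htu]; group
      _ = t := by rw [hrr, mul_inv_eq_iff_eq_mul.2 h, htu]
  constructor
  · intro h
    obtain ⟨c, hc, hcu⟩ := existsUnique_fix hS ht1 htt
    have hrb : r • (t • a) = c := hcu _ (by
      have h1 : (r⁻¹ * t * r) • (t • a) = t • a := by
        rw [← e, mul_smul, t_smul_b hS, mul_smul, MulAction.mem_stabilizer_iff.1 hs.1]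
      rw [mul_smul, mul_smul, inv_smul_eq_iff] at h1
      exact h1)
    have hdc : d • c = c := hcu _ (by
      show t • d • c = d • c
      rw [← mul_smul, ← h, mul_smul, hc])
    have hdr : d * r * d⁻¹ = r := eq_of_smul_eq hS (hS.conj_mem d (D_le hd) r hr) hr (b_ne hS) (by
      rw [mul_smul, mul_smul, inv_smul_eq_iff.2 (smul_b_of_mem_D hd).symm, hrb, hdc])
    have hse : s = t * (r⁻¹ * t * r) * t := by
      rw [← e, show t * (t * s * t) * t = (t * t) * s * (t * t) by simp only [mul_assoc], htt,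
        one_mul, mul_one]
    have hdt : Commute d t := h
    have hdr' : Commute d r := mul_inv_eq_iff_eq_mul.1 hdr
    rw [hse]
    exact ((hdt.mul_right ((hdr'.inv_right.mul_right hdt).mul_right hdr')).mul_right hdt).eq
  · intro h
    have hd' : t * d * t⁻¹ ∈ 𝐃 := conj_t_mem hS hd
    have hti := t_inv hS
    obtain ⟨-, h2⟩ := hcomm hd' (by
      calc t * d * t⁻¹ * (t * s * t) = t * (d * s) * t := by group
        _ = t * s * t * (t⁻¹ * d * t) := by rw [h]; group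
        _ = t * s * t * (t * d * t⁻¹) := by rw [hti])
    have h3 : t * d = d * t := by
      have h2' : t * d * t⁻¹ = d := by
        calc t * d * t⁻¹ = (t * d * t⁻¹ * t) * t⁻¹ := by group
          _ = t * (t * d * t⁻¹) * t⁻¹ := by rw [h2]
          _ = d := by
            rw [hti, show t * (t * d * t) * t = (t * t) * d * (t * t) by simp only [mul_assoc],
              htt, one_mul, mul_one]
      exact mul_inv_eq_iff_eq_mul.1 h2'
    exact h3.symm

theorem centralizer_K :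
    (𝐃) ⊓ Subgroup.centralizer {t} ⊓ Subgroup.centralizer (𝐊) =
      (𝐃) ⊓ Subgroup.centralizer (𝐈) := by
  obtain ⟨⟨s, r⟩, ⟨hs, hr, e⟩, -⟩ := existsUnique_structure hS
  simp only at hs hr e
  ext d
  simp only [Subgroup.mem_inf, Subgroup.mem_centralizer_singleton_iff]
  constructor
  · rintro ⟨⟨hd, hdt⟩, hdK⟩
    refine ⟨hd, Subgroup.mem_centralizer_iff.2 fun s' hs' => ?_⟩
    obtain ⟨k, hk, rfl⟩ := exists_conj_K hS hs hs'
    have h1 : Commute d k := (Subgroup.mem_centralizer_iff.1 hdK k hk).symm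
    have h2 : Commute d s := (centralizer_structure hS hs hr e (Subgroup.mem_inf.2 hd)).1 hdt
    exact ((h1.inv_right.mul_right h2).mul_right h1).eq.symm
  · rintro ⟨hd, hdI⟩
    have hdD : d ∈ 𝐃 := Subgroup.mem_inf.2 hd
    have hdt : d * t = t * d := (centralizer_structure hS hs hr e hdD).2
      (Subgroup.mem_centralizer_iff.1 hdI s hs).symm
    refine ⟨⟨hd, hdt⟩, Subgroup.mem_centralizer_iff.2 fun k hk => ?_⟩
    have hki : k * k ∈ 𝐃 := mul_mem hk.1 hk.1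
    have hs' : k⁻¹ * s * k ∈ 𝐈 := ⟨mul_mem (mul_mem (inv_mem (D_le hk.1)) hs.1) (D_le hk.1),
      fun h => hs.2.1 (by calc s = k * (k⁻¹ * s * k) * k⁻¹ := by group
                            _ = 1 := by rw [h]; group),
      by calc _ = k⁻¹ * (s * s) * k := by group
           _ = 1 := by rw [hs.2.2]; group⟩
    have hc := Subgroup.mem_centralizer_iff.1 hdI _ hs'
    have hx : (k * d * k⁻¹) * s = s * (k * d * k⁻¹) := by
      calc (k * d * k⁻¹) * s = k * (d * (k⁻¹ * s * k)) * k⁻¹ := by group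
        _ = s * (k * d * k⁻¹) := by rw [← hc]; group
    have hxt := (centralizer_structure hS hs hr e
      (mul_mem (mul_mem hk.1 hdD) (inv_mem hk.1))).2 hx
    have h1 : t * (k * d * k⁻¹) * t⁻¹ = k * d * k⁻¹ := by rw [← hxt, mul_inv_cancel_right]
    have h2 : t * (k * d * k⁻¹) * t⁻¹ = k⁻¹ * d * k := by
      calc t * (k * d * k⁻¹) * t⁻¹ = (t * k * t⁻¹) * (t * d * t⁻¹) * (t * k * t⁻¹)⁻¹ := by group
        _ = k⁻¹ * d * k := by rw [hk.2, ← hdt, mul_inv_cancel_right, inv_inv]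
    have hcomm : Commute d (k * k) := by
      show d * (k * k) = k * k * d
      calc d * (k * k) = k * (k⁻¹ * d * k) * k := by group
        _ = k * k * d := by rw [← h2, h1]; group
    have hkk : (k * k) ^ ((Nat.card ↥(𝐃) + 1) / 2) = k := by
      rw [(Commute.refl k).mul_pow]; exact sqrt_odd hS.odd_card hk.1
    have := hcomm.pow_right ((Nat.card ↥(𝐃) + 1) / 2)
    rw [hkk] at this
    exact this.eq.symm

/-- A non-identity inverted element of `D` fixes no non-identity element of `Q`. -/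
theorem inverted_fpf {x : G} (hx : x ∈ 𝐊) (hx1 : x ≠ 1) :
    Q ⊓ Subgroup.centralizer {x} = ⊥ := by
  rw [eq_bot_iff]
  intro q hq
  obtain ⟨hqQ, hqx⟩ := Subgroup.mem_inf.1 hq
  rw [Subgroup.mem_centralizer_singleton_iff] at hqx
  rw [Subgroup.mem_bot]
  by_contra hq1
  have hxa := smul_a_of_mem_D hx.1
  have hxb := smul_b_of_mem_D hx.1
  obtain ⟨s, hs, hsI⟩ := exists_involution_centralizer hS (X := {x})
    (Set.singleton_subset_iff.2 hx.1)
    ⟨a, t • a, q • (t • a), (b_ne hS).symm, (smul_ne_of_mem_M hS (hS.le hqQ) (b_ne hS)).symm,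
      fun e => hq1 (eq_one_of_fix hS hqQ (b_ne hS) e.symm), by
      rintro y rfl
      exact ⟨hxa, hxb, by rw [← mul_smul, ← hqx, mul_smul, hxb]⟩⟩
  exact hx1 (eq_one_of_sq_of_odd hS.odd_card hx.1 (sq_eq_one_of_fix_ne hS hsI.2.1 hsI.2.2
    hS.mul_self (MulAction.mem_stabilizer_iff.1 hsI.1) (b_ne hS)
    (Subgroup.mem_centralizer_singleton_iff.1 hs) hx.2))

/-- The core of the point stabiliser has odd order and, in rank at least two, it is the odd core. -/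
theorem oddCore_eq
    (h2 : ∃ x y : G, x ≠ 1 ∧ y ≠ 1 ∧ x ≠ y ∧ x * x = 1 ∧ y * y = 1 ∧ x * y = y * x) :
    Cfsg.pPrimeCore 2 G = (𝐌).normalCore := by
  refine le_antisymm ?_ ?_
  · haveI : (Cfsg.pPrimeCore 2 G).Normal := by
      haveI := CfsgLib.Cores.pPrimeCore_characteristic (G := G) 2
      infer_instance
    rw [Subgroup.normal_le_normalCore]
    obtain ⟨x, y, hx1, hy1, hxy, hx2, hy2, hc⟩ := h2
    obtain ⟨p, hp, hpu⟩ := existsUnique_fix hS hx1 hx2
    have hyp : y • p = p := hpu _ (by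
      show x • y • p = y • p
      rw [← mul_smul, hc, mul_smul, hp])
    obtain ⟨A, hA⟩ : ∃ A : Subgroup G, (A : Set G) = {1, x, y, x * y} := by
      have hc' : Commute x y := hc
      refine ⟨{ carrier := {1, x, y, x * y}
                one_mem' := by simp
                inv_mem' := ?_
                mul_mem' := ?_ }, rfl⟩
      · have hxx : ∀ z : G, x * (x * z) = z := fun z => by rw [← mul_assoc, hx2, one_mul]
        have hyy : ∀ z : G, y * (y * z) = z := fun z => by rw [← mul_assoc, hy2, one_mul]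
        have hyxz : ∀ z : G, y * (x * z) = x * (y * z) := fun z => by
          rw [← mul_assoc, ← hc, mul_assoc]
        rintro u v (rfl | rfl | rfl | rfl) (rfl | rfl | rfl | rfl)
        all_goals simp [mul_assoc, hx2, hy2, hxx, hyy, hyxz, hc.symm]
      · rintro u (rfl | rfl | rfl | rfl)
        all_goals simp [inv_eq_of_sq hx2, inv_eq_of_sq hy2, mul_inv_rev, ← hc]
    have hmem : ∀ z ∈ A, z ≠ 1 → z * z = 1 ∧ z • p = p := by
      intro z hz hz1
      rw [← SetLike.mem_coe, hA] at hz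
      rcases hz with rfl | rfl | rfl | rfl
      · exact absurd rfl hz1
      · exact ⟨hx2, hp⟩
      · exact ⟨hy2, hyp⟩
      · refine ⟨?_, by rw [mul_smul, hyp, hp]⟩
        calc x * y * (x * y) = x * (y * x) * y := by group
          _ = (x * x) * (y * y) := by rw [← hc]; group
          _ = 1 := by rw [hx2, hy2, one_mul]
    have hsq : ∀ z ∈ A, z * z = 1 := fun z hz => by
      by_cases h : z = 1
      · rw [h, one_mul]
      · exact (hmem z hz h).1
    have hAc : ∀ u ∈ A, ∀ v ∈ A, u * v = v * u := fun u hu v hv => by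
      calc u * v = (u * v)⁻¹ := (inv_eq_of_sq (hsq _ (mul_mem hu hv))).symm
        _ = v * u := by rw [mul_inv_rev, inv_eq_of_sq (hsq u hu), inv_eq_of_sq (hsq v hv)]
    have hxA : x ∈ A := by rw [← SetLike.mem_coe, hA]; simp
    have hyA : y ∈ A := by rw [← SetLike.mem_coe, hA]; simp
    have hnc : ¬ IsCyclic A := by
      intro hcyc
      obtain ⟨g, hg⟩ := hcyc.exists_generator
      have hgen : ∀ z ∈ A, z ≠ 1 → z = g.1 := by
        intro z hz hz1
        obtain ⟨i, hi⟩ := Subgroup.mem_zpowers_iff.1 (hg ⟨z, hz⟩)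
        have hi' : g.1 ^ i = z := congrArg Subtype.val hi
        rcases Int.even_or_odd' i with ⟨j, rfl | rfl⟩
        · exact absurd (by rw [← hi', zpow_mul, zpow_two, hsq _ g.2, one_zpow]) hz1
        · rw [← hi', zpow_add, zpow_mul, zpow_two, hsq _ g.2, one_zpow, one_mul, zpow_one]
      exact hxy ((hgen x hxA hx1).trans (hgen y hyA hy1).symm)
    have hcardA : Nat.card A ∣ 4 := by
      have h4 : Nat.card A = ({1, x, y, x * y} : Set G).ncard := by
        rw [← Nat.card_coe_set_eq, ← hA]; rfl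
      have hxy1 : x * y ≠ 1 := fun e => hxy (by
        rw [mul_eq_one_iff_eq_inv.1 e, inv_eq_of_sq hy2])
      rw [h4, Set.ncard_insert_of_notMem (by simp [hx1.symm, hy1.symm, hxy1.symm]),
        Set.ncard_insert_of_notMem (by simp [hxy, hy1]),
        Set.ncard_insert_of_notMem (by simp [hx1]), Set.ncard_singleton]
    have hcop : (Nat.card A).Coprime (Nat.card (Cfsg.pPrimeCore 2 G)) :=
      ((CfsgLib.Cores.coprime_card_pPrimeCore (G := G) 2).symm.pow_left 2).coprime_dvd_left hcardA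
    have hgen := CfsgLib.Solvable.iSup_centralizer_eq (K := Cfsg.pPrimeCore 2 G) hAc hnc
      (by rw [Subgroup.normalizer_eq_top]; exact le_top) hcop
    have hOp : Cfsg.pPrimeCore 2 G ≤ stabilizer G p := by
      rw [← hgen]
      refine iSup₂_le fun z hz g hg => MulAction.mem_stabilizer_iff.2 ?_
      obtain ⟨hz2, hzp⟩ := hmem z hz.1 hz.2
      refine (existsUnique_fix hS hz.2 hz2).unique ?_ hzp
      rw [← mul_smul, ← Subgroup.mem_centralizer_singleton_iff.1 (Subgroup.mem_inf.1 hg).2,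
        mul_smul, hzp]
    obtain ⟨g₀, hg₀⟩ := exists_smul_eq' hS p
    intro g hg
    have := hOp ((inferInstance : (Cfsg.pPrimeCore 2 G).Normal).conj_mem g hg g₀)
    rw [MulAction.mem_stabilizer_iff, mul_smul, mul_smul, ← hg₀, inv_smul_smul] at this
    exact MulAction.mem_stabilizer_iff.2 (smul_left_cancel g₀ this)
  · refine CfsgLib.Cores.le_pPrimeCore ?_
    have hle : (𝐌).normalCore ≤ 𝐃 := fun n hn => Subgroup.mem_inf.2
      ⟨Subgroup.normalCore_le _ hn, MulAction.mem_stabilizer_iff.2 (by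
        have h := Subgroup.normalCore_le _ ((Subgroup.normalCore_normal _).conj_mem n hn t⁻¹)
        rw [MulAction.mem_stabilizer_iff, mul_smul, mul_smul, inv_inv, inv_smul_eq_iff] at h
        exact h)⟩
    exact ((Nat.prime_two.coprime_iff_not_dvd.2 (Nat.two_dvd_ne_zero.2
      (Nat.odd_iff.1 hS.odd_card))).symm).coprime_dvd_left (Subgroup.card_dvd_of_le hle)

/-- In rank at least two there are two involutions in the point stabiliser, so `K` is non-trivial. -/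
theorem exists_K_ne_one
    (h2 : ∃ x y : G, x ≠ 1 ∧ y ≠ 1 ∧ x ≠ y ∧ x * x = 1 ∧ y * y = 1 ∧ x * y = y * x) :
    ∃ k ∈ 𝐊, k ≠ 1 := by
  obtain ⟨x, y, hx1, hy1, hxy, hx2, hy2, hc⟩ := h2
  obtain ⟨p, hp, hpu⟩ := existsUnique_fix hS hx1 hx2
  have hyp : y • p = p := hpu _ (by
    show x • y • p = y • p
    rw [← mul_smul, hc, mul_smul, hp])
  obtain ⟨g, hg⟩ := exists_smul_eq' hS p
  have hmem : ∀ z : G, z ≠ 1 → z * z = 1 → z • p = p → g⁻¹ * z * g ∈ 𝐈 := fun z hz1 hz2 hzp =>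
    ⟨MulAction.mem_stabilizer_iff.2 (by rw [mul_smul, mul_smul, hg, hzp, ← hg, inv_smul_smul]),
      fun e => hz1 (by calc z = g * (g⁻¹ * z * g) * g⁻¹ := by group
                          _ = 1 := by rw [e]; group),
      by calc _ = g⁻¹ * (z * z) * g := by group
           _ = 1 := by rw [hz2]; group⟩
  obtain ⟨k, hk, hkxy⟩ := exists_conj_K hS (hmem x hx1 hx2 hp) (hmem y hy1 hy2 hyp)
  refine ⟨k, hk, fun e => hxy ?_⟩
  rw [e, inv_one, one_mul, mul_one] at hkxy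
  exact mul_left_cancel (mul_right_cancel hkxy)

theorem isNilpotent_Q
    (h2 : ∃ x y : G, x ≠ 1 ∧ y ≠ 1 ∧ x ≠ y ∧ x * x = 1 ∧ y * y = 1 ∧ x * y = y * x) :
    Group.IsNilpotent Q := by
  obtain ⟨k, hk, hk1⟩ := exists_K_ne_one hS h2
  have hko : orderOf k ≠ 1 := fun h => hk1 (orderOf_eq_one_iff.1 h)
  obtain ⟨r, hr, hrk⟩ := Nat.exists_prime_and_dvd hko
  set x := k ^ (orderOf k / r) with hx
  have hxo : orderOf x = r := orderOf_pow_orderOf_div (orderOf_pos k).ne' hrk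
  have hxK : x ∈ 𝐊 := ⟨pow_mem hk.1 _, by rw [hx, ← conj_pow, hk.2, inv_pow]⟩
  have hx1 : x ≠ 1 := fun e => by rw [e, orderOf_one] at hxo; exact hr.ne_one hxo.symm
  haveI : (Q.subgroupOf 𝐌).Normal := ⟨fun n hn g => by
    rw [Subgroup.mem_subgroupOf] at hn ⊢
    exact hS.conj_mem g g.2 _ hn⟩
  haveI := CfsgLib.FGS.isNilpotent_of_fpf_element (Q.subgroupOf 𝐌) hr
    (h := (⟨x, D_le hxK.1⟩ : 𝐌)) (by rw [Subgroup.orderOf_mk]; exact hxo) (fun n hn e => by
      have hmem : (n : G) ∈ Q ⊓ Subgroup.centralizer {x} := Subgroup.mem_inf.2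
        ⟨Subgroup.mem_subgroupOf.1 hn,
          Subgroup.mem_centralizer_singleton_iff.2 (congrArg Subtype.val e)⟩
      rw [inverted_fpf hS hxK hx1, Subgroup.mem_bot] at hmem
      exact Subtype.ext hmem)
  let e := Subgroup.subgroupOfEquivOfLe hS.le
  exact isNilpotent_of_ker_le_center e.symm.toMonoidHom
    (by rw [(MonoidHom.ker_eq_bot_iff _).2 e.symm.injective]; exact bot_le)

theorem involutions_central
    (h2 : ∃ x y : G, x ≠ 1 ∧ y ≠ 1 ∧ x ≠ y ∧ x * x = 1 ∧ y * y = 1 ∧ x * y = y * x)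
    {s : G} (hs : s ∈ 𝐈) : ∀ x ∈ Q, s * x = x * s := by
  haveI := Fact.mk Nat.prime_two
  haveI := isNilpotent_Q hS h2
  obtain ⟨P⟩ : Nonempty (Sylow 2 Q) := inferInstance
  haveI : (P : Subgroup Q).Normal := inferInstance
  have hP : (P : Subgroup Q) ≠ ⊥ := P.ne_bot_of_dvd_card hS.even_card.two_dvd
  obtain ⟨w, hw, hw1⟩ := (Subgroup.bot_or_exists_ne_one _).resolve_left
    (CfsgLib.Solvable.inf_center_ne_bot_of_isNilpotent hP)
  obtain ⟨hwP, hwc⟩ := Subgroup.mem_inf.1 hw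
  obtain ⟨n, hn⟩ := P.isPGroup' ⟨w, hwP⟩
  have hn' : w ^ 2 ^ n = 1 := congrArg Subtype.val hn
  obtain ⟨z, hzc, hz1, hz2⟩ : ∃ z : Q, z ∈ Subgroup.center Q ∧ z ≠ 1 ∧ z * z = 1 := by
    obtain ⟨j, -, hj⟩ := (Nat.dvd_prime_pow Nat.prime_two).1 (orderOf_dvd_of_pow_eq_one hn')
    obtain ⟨i, rfl⟩ : ∃ i, j = i + 1 := ⟨j - 1, by
      have : j ≠ 0 := fun e => hw1 (orderOf_eq_one_iff.1 (by rw [hj, e, pow_zero]))
      omega⟩
    refine ⟨w ^ 2 ^ i, pow_mem hwc _, ?_, ?_⟩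
    · refine pow_ne_one_of_lt_orderOf (pow_ne_zero _ two_ne_zero) ?_
      rw [hj]
      exact Nat.pow_lt_pow_right one_lt_two (by omega)
    · rw [← pow_add, ← two_mul, ← pow_succ', ← hj, pow_orderOf_eq_one]
  have hzI : (z : G) ∈ 𝐈 :=
    ⟨hS.le z.2, fun e => hz1 (Subtype.ext e), congrArg Subtype.val hz2⟩
  obtain ⟨k, hk, hks⟩ := exists_conj_K hS hzI hs
  intro x hx
  have hkx : k * x * k⁻¹ ∈ Q := hS.conj_mem k (D_le hk.1) x hx
  have hcz := congrArg Subtype.val (Subgroup.mem_center_iff.1 hzc ⟨k * x * k⁻¹, hkx⟩)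
  simp only [Subgroup.coe_mul] at hcz
  rw [← hks]
  calc k⁻¹ * z * k * x = k⁻¹ * (z * (k * x * k⁻¹)) * k := by group
    _ = x * (k⁻¹ * z * k) := by rw [← hcz]; group

theorem involutions_mul
    (h2 : ∃ x y : G, x ≠ 1 ∧ y ≠ 1 ∧ x ≠ y ∧ x * x = 1 ∧ y * y = 1 ∧ x * y = y * x)
    {s s' : G} (hs : s ∈ 𝐈) (hs' : s' ∈ 𝐈) : s * s' = 1 ∨ s * s' ∈ 𝐈 := by
  refine or_iff_not_imp_left.2 fun h => ⟨mul_mem hs.1 hs'.1, h, ?_⟩
  have hc := involutions_central hS h2 hs s' (mem_Q_of_sq hS hs'.1 hs'.2.2)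
  calc s * s' * (s * s') = s * (s' * s) * s' := by group
    _ = (s * s) * (s' * s') := by rw [← hc]; group
    _ = 1 := by rw [hs.2.2, hs'.2.2, one_mul]

theorem fusion_in_V {X : Set G}
    (hX : X ⊆ (((𝐃) ⊓ Subgroup.centralizer {t} : Subgroup G) : Set G)) (g : G)
    (hY : (fun x => g * x * g⁻¹) '' X ⊆
      (((𝐃) ⊓ Subgroup.centralizer {t} : Subgroup G) : Set G)) :
    ∃ v ∈ (𝐃) ⊓ Subgroup.centralizer {t},
      (fun x => v * x * v⁻¹) '' X = (fun x => g * x * g⁻¹) '' X := by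
  obtain ⟨c, hc, hca, hcb⟩ := exists_fix_t hS
  have hVD : ∀ {x : G}, x ∈ (𝐃) ⊓ Subgroup.centralizer {t} → x ∈ 𝐃 ∧ x * t = t * x :=
    fun hx => ⟨(Subgroup.mem_inf.1 hx).1,
      Subgroup.mem_centralizer_singleton_iff.1 (Subgroup.mem_inf.1 hx).2⟩
  have hfa : ∀ x ∈ X, x • a = a := fun x hx => smul_a_of_mem_D (hVD (hX hx)).1
  have hfb : ∀ x ∈ X, x • (t • a) = t • a := fun x hx => smul_b_of_mem_D (hVD (hX hx)).1
  have hfc : ∀ x ∈ X, x • c = c := fun x hx => by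
    refine (existsUnique_fix hS hS.ne_one hS.mul_self).unique ?_ hc
    rw [← mul_smul, ← (hVD (hX hx)).2, mul_smul, hc]
  have hg : ∀ x ∈ X, ∀ p : Ω, (g * x * g⁻¹) • p = p → x • g⁻¹ • p = g⁻¹ • p := by
    intro x _ p hp
    rw [mul_smul, mul_smul] at hp
    exact smul_left_cancel g (by rw [hp, smul_inv_smul])
  obtain ⟨e, he, hea, heb⟩ := centralizer_two_transitive hS (X := X)
    ⟨a, t • a, c, (b_ne hS).symm, hca.symm, hcb.symm,
      fun x hx => ⟨hfa x hx, hfb x hx, hfc x hx⟩⟩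
    (b₁ := a) (b₂ := t • a) (c₁ := g⁻¹ • a) (c₂ := g⁻¹ • (t • a))
    (fun x hx => ⟨hfa x hx, hfb x hx,
      hg x hx _ (smul_a_of_mem_D (hVD (hY ⟨x, hx, rfl⟩)).1),
      hg x hx _ (smul_b_of_mem_D (hVD (hY ⟨x, hx, rfl⟩)).1)⟩)
    (b_ne hS).symm (fun h => b_ne hS (smul_left_cancel g⁻¹ h).symm)
  set d := g * e with hd
  have hdD : d ∈ 𝐃 := Subgroup.mem_inf.2
    ⟨MulAction.mem_stabilizer_iff.2 (by rw [mul_smul, hea, smul_inv_smul]),
      MulAction.mem_stabilizer_iff.2 (by rw [mul_smul, heb, smul_inv_smul])⟩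
  have hdx : ∀ x ∈ X, d * x * d⁻¹ = g * x * g⁻¹ := fun x hx => by
    calc d * x * d⁻¹ = g * (e * x * e⁻¹) * g⁻¹ := by rw [hd]; group
      _ = g * x * g⁻¹ := by
        rw [← Subgroup.mem_centralizer_iff.1 he x hx, mul_inv_cancel_right]
  obtain ⟨⟨v, k⟩, ⟨hv, hk, hvk⟩, -⟩ := exists_unique_factor hS.mul_self hS.odd_card
    (fun y hy => conj_t_mem hS hy) hdD
  simp only at hv hk hvk
  refine ⟨v, hv, Set.image_congr fun x hx => ?_⟩
  obtain ⟨-, hvt⟩ := hVD hv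
  obtain ⟨-, hxt⟩ := hVD (hX hx)
  obtain ⟨-, hyt⟩ := hVD (hY ⟨x, hx, rfl⟩)
  simp only at hyt
  rw [← hdx x hx, hvk] at hyt ⊢
  have hvt' : t * v * t⁻¹ = v := by rw [← hvt, mul_inv_cancel_right]
  have hxt' : t * x * t⁻¹ = x := by rw [← hxt, mul_inv_cancel_right]
  have h1 : k⁻¹ * x * k = k * x * k⁻¹ := by
    have h2 : t * (v * k * x * (v * k)⁻¹) * t⁻¹ = v * k * x * (v * k)⁻¹ := by
      rw [← hyt, mul_inv_cancel_right]
    have h3 : t * (v * k * x * (v * k)⁻¹) * t⁻¹ =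
        (t * v * t⁻¹) * ((t * k * t⁻¹) * (t * x * t⁻¹) * (t * k * t⁻¹)⁻¹) * (t * v * t⁻¹)⁻¹ := by
      group
    rw [h2, hvt', hk.2, hxt', inv_inv] at h3
    calc k⁻¹ * x * k = v⁻¹ * (v * (k⁻¹ * x * k) * v⁻¹) * v := by group
      _ = k * x * k⁻¹ := by rw [← h3]; group
  have hcomm : Commute x (k * k) := by
    show x * (k * k) = k * k * x
    calc x * (k * k) = k * (k⁻¹ * x * k) * k := by group
      _ = k * k * x := by rw [h1]; group
  have hkk : (k * k) ^ ((Nat.card ↥(𝐃) + 1) / 2) = k := by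
    rw [(Commute.refl k).mul_pow]; exact sqrt_odd hS.odd_card hk.1
  have hck := hcomm.pow_right ((Nat.card ↥(𝐃) + 1) / 2)
  rw [hkk] at hck
  calc v * x * v⁻¹ = v * (k * x * k⁻¹) * v⁻¹ := by rw [← hck.eq, mul_inv_cancel_right]
    _ = v * k * x * (v * k)⁻¹ := by group

theorem strongly_real
    (h2 : ∃ x y : G, x ≠ 1 ∧ y ≠ 1 ∧ x ≠ y ∧ x * x = 1 ∧ y * y = 1 ∧ x * y = y * x)
    {u v : G} (hu1 : u ≠ 1) (hu2 : u * u = 1) (hv1 : v ≠ 1) (hv2 : v * v = 1)
    (hx : (u * v) * (u * v) ≠ 1) :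
    (∃ g : G, ∃ u' ∈ 𝐈, g * (u * v) * g⁻¹ = u' * t) ∧
      Odd (Nat.card ↥(Subgroup.centralizer {u * v})) := by
  obtain ⟨p, hp, -⟩ := existsUnique_fix hS hu1 hu2
  obtain ⟨g, hg⟩ := exists_smul_eq' hS p
  have hcI : ∀ (h w : G), h • p = a → w ≠ 1 → w * w = 1 → w • p = p → h * w * h⁻¹ ∈ 𝐈 :=
    fun h w hh hw1 hw2 hwp =>
    ⟨MulAction.mem_stabilizer_iff.2 (by rw [mul_smul, mul_smul, inv_smul_eq_iff.2 hh.symm, hwp, hh]),
      fun e => hw1 (by calc w = h⁻¹ * (h * w * h⁻¹) * h := by group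
                          _ = 1 := by rw [e]; group),
      by calc _ = h * (w * w) * h⁻¹ := by group
           _ = 1 := by rw [hw2]; group⟩
  have hvp : v • p ≠ p := by
    intro hvp
    have hp' : g⁻¹ • p = a := inv_smul_eq_iff.2 hg.symm
    have hui := hcI g⁻¹ u hp' hu1 hu2 hp
    have hvi := hcI g⁻¹ v hp' hv1 hv2 hvp
    have hc := involutions_central hS h2 hui _ (mem_Q_of_sq hS hvi.1 hvi.2.2)
    have huv : u * v = v * u := by
      calc u * v = g * ((g⁻¹ * u * g⁻¹⁻¹) * (g⁻¹ * v * g⁻¹⁻¹)) * g⁻¹ := by group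
        _ = v * u := by rw [hc]; group
    refine hx ?_
    calc u * v * (u * v) = u * (v * u) * v := by group
      _ = (u * u) * (v * v) := by rw [← huv]; group
      _ = 1 := by rw [hu2, hv2, one_mul]
  refine ⟨?_, ?_⟩
  · obtain ⟨e, hep, hev⟩ := exists_pair hS (Ne.symm hvp) (b_ne hS).symm
    have hj1 : e * v * e⁻¹ ≠ 1 := fun h => hv1 (by
      calc v = e⁻¹ * (e * v * e⁻¹) * e := by group
        _ = 1 := by rw [h]; group)
    obtain ⟨h, hh, hht⟩ := exists_D_conj_t hS (j := e * v * e⁻¹) hj1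
      (by calc _ = e * (v * v) * e⁻¹ := by group
           _ = 1 := by rw [hv2]; group)
      (by rw [mul_smul, mul_smul, inv_smul_eq_iff.2 hep.symm, hev])
    refine ⟨h * e, _, hcI (h * e) u (by rw [mul_smul, hep, smul_a_of_mem_D hh]) hu1 hu2 hp, ?_⟩
    rw [← hht]; group
  · rw [← Nat.not_even_iff_odd]
    intro hev
    haveI := Fact.mk Nat.prime_two
    obtain ⟨z, hz⟩ := exists_prime_orderOf_dvd_card' (G := ↥(Subgroup.centralizer {u * v})) 2
      hev.two_dvd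
    rw [← Subgroup.orderOf_coe] at hz
    have hz1 : (z : G) ≠ 1 := fun e => by rw [e, orderOf_one] at hz; omega
    have hz2 : (z : G) * z = 1 := by rw [← sq, ← hz, pow_orderOf_eq_one]
    have hzx : (z : G) * (u * v) = (u * v) * z := Subgroup.mem_centralizer_singleton_iff.1 z.2
    obtain ⟨q, hq, -⟩ := existsUnique_fix hS hz1 hz2
    have hui : u * (u * v) * u⁻¹ = (u * v)⁻¹ := by
      rw [mul_inv_rev, inv_eq_of_sq hv2, inv_eq_of_sq hu2, ← mul_assoc u u v, hu2, one_mul]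
    have hvi : v * (u * v) * v⁻¹ = (u * v)⁻¹ := by
      rw [mul_inv_rev, inv_eq_of_sq hv2, inv_eq_of_sq hu2, mul_assoc, mul_assoc u v v, hv2, mul_one]
    by_cases huq : u • q = q
    · have hqp : q = p := (existsUnique_fix hS hu1 hu2).unique huq hp
      exact hx (sq_eq_one_of_fix_ne hS hz1 hz2 hv2 hq (by rw [hqp]; exact hvp) hzx hvi)
    · exact hx (sq_eq_one_of_fix_ne hS hz1 hz2 hu2 hq huq hzx hui)

end CfsgLib.RankOneSetup
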