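/-
The canonical form in the rank-one set-up and the functions it defines.
-/
import Cfsg.Agent.Lib.RankOneSetup.Basic

set_option autoImplicit false

namespace CfsgLib.RankOneSetup

open MulAction (stabilizer)

variable {G Ω : Type*} [Group G] [MulAction G Ω] {a : Ω} {t : G} {Q : Subgroup G}
  (hS : Cfsg.IsRankOneSetup G Ω a t Q)

local notation "𝐌" => stabilizer G a
local notation "𝐃" => stabilizer G a ⊓ stabilizer G (t • a)

include hS

theorem existsUnique_canon {g : G} (hg : g ∉ 𝐌) :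
    ∃! p : G × G, p.1 ∈ 𝐌 ∧ p.2 ∈ Q ∧ g = p.1 * t * p.2 := by
  have hga : g⁻¹ • a ≠ a := fun h => hg (MulAction.mem_stabilizer_iff.2 (by
    conv_lhs => rw [← h]
    rw [smul_inv_smul]))
  obtain ⟨y, hy, hyb⟩ := exists_mem_Q_smul hS hga
  refine ⟨(g * y * t, y⁻¹), ⟨MulAction.mem_stabilizer_iff.2 ?_, inv_mem hy, ?_⟩, ?_⟩
  · rw [mul_smul, mul_smul, hyb, smul_inv_smul]
  · show g = g * y * t * t * y⁻¹
    rw [mul_assoc (g * y) t t, hS.mul_self, mul_one, mul_inv_cancel_right]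
  · rintro ⟨x', y'⟩ ⟨hx', hy', e⟩
    simp only at hx' hy' e
    have h1 : y'⁻¹ • (t • a) = g⁻¹ • a := by
      rw [e, mul_inv_rev, mul_inv_rev, mul_smul, mul_smul, t_inv hS,
        MulAction.mem_stabilizer_iff.1 (inv_mem hx')]
    have h2 : y'⁻¹ = y := eq_of_smul_eq hS (inv_mem hy') hy (b_ne hS) (h1.trans hyb.symm)
    have h3 : y' = y⁻¹ := by rw [← h2, inv_inv]
    refine Prod.ext ?_ h3
    show x' = g * y * t
    rw [e, h3, inv_mul_cancel_right, mul_assoc, hS.mul_self, mul_one]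

/-- Uniqueness of the form `g h t f`. -/
theorem form_unique {g h f g' h' f' : G} (hg : g ∈ Q) (hh : h ∈ 𝐃) (hf : f ∈ Q)
    (hg' : g' ∈ Q) (hh' : h' ∈ 𝐃) (hf' : f' ∈ Q) (e : g * h * t * f = g' * h' * t * f') :
    g = g' ∧ h = h' ∧ f = f' := by
  have hm : g * h ∈ 𝐌 := mul_mem (hS.le hg) (D_le hh)
  have hnot : g * h * t * f ∉ 𝐌 := fun hc => hS.not_mem (by
    have := mul_mem (mul_mem (inv_mem hm) hc) (inv_mem (hS.le hf))
    rwa [show (g * h)⁻¹ * (g * h * t * f) * f⁻¹ = t by group] at this)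
  obtain ⟨p, -, hp⟩ := existsUnique_canon hS hnot
  have h1 := hp (g * h, f) ⟨hm, hf, rfl⟩
  have h2 := hp (g' * h', f') ⟨mul_mem (hS.le hg') (D_le hh'), hf', e⟩
  obtain ⟨e1, e2⟩ := Prod.ext_iff.1 (h1.trans h2.symm)
  obtain ⟨e3, e4⟩ := mul_unique hS hg hg' hh hh' e1
  exact ⟨e3, e4, e2⟩

theorem conj_mem_Q {m q : G} (hm : m ∈ 𝐌) (hq : q ∈ Q) : m * q * m⁻¹ ∈ Q := hS.conj_mem m hm q hq

theorem conj_mem_Q' {m q : G} (hm : m ∈ 𝐌) (hq : q ∈ Q) : m⁻¹ * q * m ∈ Q := by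
  simpa using hS.conj_mem m⁻¹ (inv_mem hm) q hq

theorem tconj_mem_D {d : G} (hd : d ∈ 𝐃) : t * d * t ∈ 𝐃 := by
  have := conj_t_mem hS hd
  rwa [t_inv hS] at this

theorem fun_identities (x g h f : G) (hx : x ∈ Q) (hg : g ∈ Q) (hh : h ∈ 𝐃) (hf : f ∈ Q)
    (heq : t * x * t = g * h * t * f) :
    (∀ g₁ h₁ f₁ : G, g₁ ∈ Q → h₁ ∈ 𝐃 → f₁ ∈ Q → t * x⁻¹ * t = g₁ * h₁ * t * f₁ →
        f₁ = g⁻¹ ∧ h₁ = t * h⁻¹ * t) ∧
      (∀ g₂ h₂ f₂ : G, g₂ ∈ Q → h₂ ∈ 𝐃 → f₂ ∈ Q → t * f * t = g₂ * h₂ * t * f₂ →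
        f₂ = x ∧ h₂ = h⁻¹) ∧
      ∀ c ∈ 𝐃, ∀ g₃ h₃ f₃ : G, g₃ ∈ Q → h₃ ∈ 𝐃 → f₃ ∈ Q →
        t * (c⁻¹ * x * c) * t = g₃ * h₃ * t * f₃ →
          f₃ = (t * c * t)⁻¹ * f * (t * c * t) ∧ h₃ = (t * c * t)⁻¹ * h * c := by
  have htt := hS.mul_self
  have hti := t_inv hS
  refine ⟨fun g₁ h₁ f₁ hg₁ hh₁ hf₁ e => ?_, fun g₂ h₂ f₂ hg₂ hh₂ hf₂ e => ?_,
    fun c hc g₃ h₃ f₃ hg₃ hh₃ hf₃ e => ?_⟩
  · have e' : t * x⁻¹ * t = f⁻¹ * (t * h⁻¹ * t) * t * g⁻¹ := by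
      calc t * x⁻¹ * t = (t⁻¹ * x * t⁻¹)⁻¹ := by group
        _ = (g * h * t * f)⁻¹ := by rw [hti, heq]
        _ = f⁻¹ * t * h⁻¹ * g⁻¹ := by rw [mul_inv_rev, mul_inv_rev, mul_inv_rev, hti]; group
        _ = f⁻¹ * t * h⁻¹ * (t * t) * g⁻¹ := by rw [htt, mul_one]
        _ = _ := by simp only [mul_assoc]
    obtain ⟨-, e2, e3⟩ := form_unique hS hg₁ hh₁ hf₁ (inv_mem hf)
      (tconj_mem_D hS (inv_mem hh)) (inv_mem hg) (e.symm.trans e')
    exact ⟨e3, e2⟩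
  · have e' : t * f * t = (h⁻¹ * g⁻¹ * h) * h⁻¹ * t * x := by
      calc t * f * t = h⁻¹ * g⁻¹ * (g * h * t * f) * t := by group
        _ = h⁻¹ * g⁻¹ * (t * x) * (t * t) := by rw [← heq]; simp only [mul_assoc]
        _ = _ := by rw [htt]; group
    obtain ⟨-, e2, e3⟩ := form_unique hS hg₂ hh₂ hf₂
      (conj_mem_Q' hS (D_le hh) (inv_mem hg))
      (inv_mem hh) hx (e.symm.trans e')
    exact ⟨e3, e2⟩
  · set d := t * c * t with hd
    have hdD : d ∈ 𝐃 := tconj_mem_D hS hc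
    have h1 : t * c⁻¹ = d⁻¹ * t := by rw [hd, mul_inv_rev, mul_inv_rev, hti]; simp [mul_assoc, htt]
    have h2 : c * t = t * d := by rw [hd, ← mul_assoc, ← mul_assoc, htt, one_mul]
    have e' : t * (c⁻¹ * x * c) * t = (d⁻¹ * g * d) * (d⁻¹ * h * c) * t * (d⁻¹ * f * d) := by
      calc t * (c⁻¹ * x * c) * t = (t * c⁻¹) * x * (c * t) := by simp only [mul_assoc]
        _ = d⁻¹ * (t * x * t) * d := by rw [h1, h2]; simp only [mul_assoc]
        _ = d⁻¹ * g * h * t * f * d := by rw [heq]; simp only [mul_assoc]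
        _ = d⁻¹ * g * h * ((t * d) * d⁻¹) * f * d := by rw [mul_inv_cancel_right]
        _ = _ := by rw [← h2]; group
    obtain ⟨-, e2, e3⟩ := form_unique hS hg₃ hh₃ hf₃
      (conj_mem_Q' hS (D_le hdD) hg) (mul_mem (mul_mem (inv_mem hdD) hh) hc)
      (conj_mem_Q' hS (D_le hdD) hf) (e.symm.trans e')
    exact ⟨e3, e2⟩

theorem mul_identity (x y gx hx fx gy hy fy : G) (hxQ : x ∈ Q) (hyQ : y ∈ Q) (hxy : x * y ≠ 1)
    (hgx : gx ∈ Q) (hhx : hx ∈ 𝐃) (_hfx : fx ∈ Q) (ex : t * x * t = gx * hx * t * fx)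
    (_hgy : gy ∈ Q) (hhy : hy ∈ 𝐃) (hfy : fy ∈ Q) (ey : t * y * t = gy * hy * t * fy) :
    fx * gy ≠ 1 ∧
      ∀ gz hz fz g' h' f' : G, gz ∈ Q → hz ∈ 𝐃 → fz ∈ Q →
        t * (fx * gy) * t = gz * hz * t * fz →
        g' ∈ Q → h' ∈ 𝐃 → f' ∈ Q → t * (x * y) * t = g' * h' * t * f' →
          f' = (t * hy * t)⁻¹ * fz * (t * hy * t) * fy ∧ h' = hx * hz * hy := by
  have htt := hS.mul_self
  have hti := t_inv hS
  have hprod : t * (x * y) * t = gx * hx * (t * (fx * gy)) * (hy * t) * fy := by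
    calc t * (x * y) * t = (t * x) * (t * t) * (y * t) := by rw [htt]; simp [mul_assoc]
      _ = (t * x * t) * (t * y * t) := by simp only [mul_assoc]
      _ = _ := by rw [ex, ey]; simp only [mul_assoc]
  refine ⟨fun h1 => hxy ?_, fun gz hz fz g' h' f' hgz hhz hfz ez hg' hh' hf' e => ?_⟩
  · rw [h1, mul_one] at hprod
    have hm : t * (x * y) * t ∈ 𝐌 := by
      rw [hprod, show gx * hx * t * (hy * t) * fy = gx * (hx * (t * hy * t)) * fy by group]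
      exact mul_mem (mul_mem (hS.le hgx) (mul_mem (D_le hhx) (D_le (tconj_mem_D hS hhy))))
        (hS.le hfy)
    rw [MulAction.mem_stabilizer_iff, mul_smul, mul_smul] at hm
    refine eq_one_of_fix hS (mul_mem hxQ hyQ) (b_ne hS) (smul_left_cancel t ?_)
    rw [hm, t_smul_b hS]
  · have hz' : t * (fx * gy) = gz * hz * t * fz * t := by
      rw [← ez, mul_assoc, htt, mul_one]
    set d := t * hy * t with hd
    have hdD : d ∈ 𝐃 := tconj_mem_D hS hhy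
    have h2 : hy * t = t * d := by rw [hd, ← mul_assoc, ← mul_assoc, htt, one_mul]
    have h3 : t * d = hy * t := h2.symm
    have e' : t * (x * y) * t =
        (gx * (hx * gz * hx⁻¹)) * (hx * hz * hy) * t * (d⁻¹ * fz * d * fy) := by
      calc t * (x * y) * t = gx * hx * gz * hz * t * fz * (t * t) * d * fy := by
            rw [hprod, hz', h2]; simp only [mul_assoc]
        _ = gx * hx * gz * hz * ((t * d) * d⁻¹) * fz * d * fy := by
            rw [htt, mul_one, mul_inv_cancel_right]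
        _ = _ := by rw [h3]; group
    obtain ⟨-, e2, e3⟩ := form_unique hS hg' hh' hf'
      (mul_mem hgx (conj_mem_Q hS (D_le hhx) hgz)) (mul_mem (mul_mem hhx hhz) hhy)
      (mul_mem (conj_mem_Q' hS (D_le hdD) hfz) hfy) (e.symm.trans e')
    exact ⟨e3, e2⟩

end CfsgLib.RankOneSetup
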