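/-
A group of odd prime power order acting half-transitively on an elementary abelian group.
-/
import Mathlib
import Cfsg.Agent.Lib.Transfer.CyclicMaximal
import Cfsg.Agent.Lib.Solvable.Averaging

set_option autoImplicit false

namespace CfsgLib.RankOneSetup.HalfTransitive

variable {P E : Type*} [Group P] [Finite P] [AddCommGroup E] [DistribMulAction P E]

omit [AddCommGroup E] [DistribMulAction P E] in
theorem mem_zpowers_of_cyclic [IsCyclic P] {u v : P} (h : v ^ orderOf u = 1) :
    v ∈ Subgroup.zpowers u := by
  classical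
  haveI := Fintype.ofFinite P
  by_contra hv
  have hsub : insert v (Finset.univ.filter fun w => w ∈ Subgroup.zpowers u) ⊆
      Finset.univ.filter fun w : P => w ^ orderOf u = 1 := by
    intro w hw
    rw [Finset.mem_filter]
    refine ⟨Finset.mem_univ _, ?_⟩
    rcases Finset.mem_insert.1 hw with rfl | hw
    · exact h
    · obtain ⟨j, rfl⟩ := Subgroup.mem_zpowers_iff.1 (Finset.mem_filter.1 hw).2
      rw [← zpow_natCast, ← zpow_mul, mul_comm, zpow_mul, zpow_natCast, pow_orderOf_eq_one,
        one_zpow]
  have hle := (Finset.card_le_card hsub).trans (IsCyclic.card_pow_eq_one_le (orderOf_pos u))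
  rw [Finset.card_insert_of_notMem (by simp [hv]), ← Fintype.card_subtype,
    ← Nat.card_eq_fintype_card] at hle
  change Nat.card (Subgroup.zpowers u) + 1 ≤ _ at hle
  rw [Nat.card_zpowers] at hle
  omega

variable {p : ℕ} [hp : Fact p.Prime]

theorem main [Finite E] [FaithfulSMul P E] {q : ℕ} (hp2 : p ≠ 2) (hP : IsPGroup p P)
    (hq : q.Prime) (hE : ∀ e : E, q • e = 0)
    (hconst : ∀ a b : E, a ≠ 0 → b ≠ 0 →
      Nat.card (MulAction.stabilizer P a) = Nat.card (MulAction.stabilizer P b)) :
    IsCyclic P ∧ ∀ g : P, g ≠ 1 → ∀ a : E, g • a = a → a = 0 := by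
  classical
  have heq : ∀ (x y : E), x ≠ 0 → y ≠ 0 →
      (∀ g ∈ MulAction.stabilizer P (x + y), g ∈ MulAction.stabilizer P x) → x + y ≠ 0 →
      MulAction.stabilizer P x = MulAction.stabilizer P y := by
    intro x y hx hy h hxy
    have h' : MulAction.stabilizer P (x + y) ≤ MulAction.stabilizer P y := fun g hg => by
      have hgx := MulAction.mem_stabilizer_iff.1 (h g hg)
      have hgxy := MulAction.mem_stabilizer_iff.1 hg
      rw [smul_add, hgx] at hgxy
      exact MulAction.mem_stabilizer_iff.2 (add_left_cancel hgxy)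
    rw [← Subgroup.eq_of_le_of_card_ge (show MulAction.stabilizer P (x + y) ≤ _ from h)
        (hconst x (x + y) hx hxy).le,
      Subgroup.eq_of_le_of_card_ge h' (hconst y (x + y) hy hxy).le]
  have hcyc : IsCyclic P := by
    by_contra hnc
    have htriv : (∀ (g : P) (e : E), g • e = e) → False := fun h => hnc (by
      haveI : Subsingleton P := ⟨fun u v => FaithfulSMul.eq_of_smul_eq_smul fun e : E => by
        rw [h, h]⟩
      exact isCyclic_of_subsingleton)
    obtain ⟨A, -, hAn, hAe, hA⟩ := CfsgLib.Transfer.exists_normal_elemAb_sq hP hp2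
      (S := ⊤) (fun h => hnc (isCyclic_of_surjective Subgroup.topEquiv.toMonoidHom
        Subgroup.topEquiv.surjective))
    have hAc : ∀ x ∈ A, ∀ y ∈ A, x * y = y * x := fun x hx y hy => by
      exact congrArg Subtype.val (hAe.1.is_comm.comm ⟨x, hx⟩ ⟨y, hy⟩)
    have hAp : ∀ x ∈ A, x ^ p = 1 := hAe.2
    have hAnc : ¬ IsCyclic A := fun h => by
      obtain ⟨u, hu⟩ := h.exists_generator
      have h1 := orderOf_eq_card_of_forall_mem_zpowers hu
      have h2 : orderOf u ∣ p := orderOf_dvd_of_pow_eq_one (Subtype.ext (by simpa using hAp _ u.2))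
      rw [h1, hA, sq] at h2
      have := Nat.le_of_dvd hp.out.pos h2
      nlinarith [hp.out.two_le]
    have hqp : q ≠ p := by
      rintro rfl
      rcases subsingleton_or_nontrivial E with hs | hs
      · exact htriv fun g e => Subsingleton.elim _ _
      · obtain ⟨e, he⟩ := exists_ne (0 : E)
        have hdvd : q ∣ Nat.card E := by
          have := addOrderOf_dvd_natCard e
          rwa [addOrderOf_eq_prime (hE e) he] at this
        obtain ⟨b, hb, hb0⟩ := hP.exists_fixed_point_of_prime_dvd_card_of_fixed_point E hdvd
          (a := 0) (fun g => smul_zero g)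
        have htop : ∀ a : E, a ≠ 0 → MulAction.stabilizer P a = ⊤ := fun a ha => by
          refine Subgroup.eq_top_of_card_eq _ ?_
          rw [hconst a b ha hb0.symm, show MulAction.stabilizer P b = ⊤ from eq_top_iff.2 fun g _ =>
            hb g, Subgroup.card_top]
        refine htriv fun g a => ?_
        by_cases ha : a = 0
        · rw [ha, smul_zero]
        · exact MulAction.mem_stabilizer_iff.1 (htop a ha ▸ Subgroup.mem_top g)
    have hinv : ∀ (k : ℕ) (e : E), p ^ k • e = 0 → e = 0 := by
      intro k e he
      by_contra h0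
      have h1 := addOrderOf_dvd_of_nsmul_eq_zero he
      rw [addOrderOf_eq_prime (hp := Fact.mk hq) (hE e) h0] at h1
      exact hqp ((Nat.prime_dvd_prime_iff_eq hq hp.out).1 (hq.dvd_of_dvd_pow h1))
    haveI := Fintype.ofFinite A
    let T : E → E := fun z => ∑ u : A, (u : P) • z
    have hTg : ∀ (g : P) (z : E), T (g • z) = g • T z := by
      intro g z
      simp only [T, Finset.smul_sum, ← mul_smul]
      let σ : A ≃ A :=
        ⟨fun u => ⟨g⁻¹ * u * g, by simpa using hAn.conj_mem _ u.2 g⁻¹⟩,
          fun u => ⟨g * u * g⁻¹, hAn.conj_mem _ u.2 g⟩, fun u => by ext; simp [mul_assoc],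
          fun u => by ext; simp [mul_assoc]⟩
      refine Fintype.sum_equiv σ _ _ fun u => ?_
      simp [σ, mul_assoc]
    have hTA : ∀ v ∈ A, ∀ z : E, v • T z = T z := by
      intro v hv z
      simp only [T, Finset.smul_sum, ← mul_smul]
      exact Fintype.sum_equiv (Equiv.mulLeft ⟨v, hv⟩) _ _ fun u => rfl
    by_cases hW : ∃ x : E, x ≠ 0 ∧ ∀ v ∈ A, v • x = x
    · obtain ⟨x, hx, hxA⟩ := hW
      obtain ⟨v, hv, z, hz⟩ : ∃ v ∈ A, ∃ z : E, v • z ≠ z := by
        by_contra h
        push Not at h
        refine hAnc ?_
        haveI : Subsingleton A := ⟨fun u w => Subtype.ext (FaithfulSMul.eq_of_smul_eq_smul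
          (M := P) fun e : E => by rw [h _ u.2, h _ w.2])⟩
        exact isCyclic_of_subsingleton
      set y := p ^ 2 • z - T z with hy
      have hTconst : ∀ e : E, (∀ v ∈ A, v • e = e) → T e = p ^ 2 • e := fun e he => by
        show ∑ u : A, (u : P) • e = _
        rw [Finset.sum_congr rfl fun (u : A) _ => he u u.2, Finset.sum_const, Finset.card_univ,
          ← Nat.card_eq_fintype_card, hA]
      have hTy : T y = 0 := by
        have h1 : T y = p ^ 2 • T z - T (T z) := by
          simp only [T, hy, smul_sub, smul_comm _ (p ^ 2), Finset.sum_sub_distrib, Finset.smul_sum]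
        rw [h1, hTconst (T z) (fun v hv => hTA v hv z), sub_self]
      have hy0 : y ≠ 0 := by
        intro h
        have h1 : p ^ 2 • (v • z - z) = 0 := by
          rw [smul_sub, smul_comm, sub_eq_zero.1 h, hTA v hv z, sub_self]
        exact hz (sub_eq_zero.1 (hinv 2 _ h1))
      have hxy : x + y ≠ 0 := fun h => hx (hinv 2 x (by
        have h1 : T (x + y) = T x + T y := by simp only [T, smul_add, Finset.sum_add_distrib]
        rw [h] at h1
        simp only [T, smul_zero, Finset.sum_const_zero] at h1
        change 0 = T x + T y at h1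
        rw [hTy, add_zero, hTconst x hxA] at h1
        exact h1.symm))
      have hst := heq x y hx hy0 (fun g hg => MulAction.mem_stabilizer_iff.2 (by
        have h1 : T (x + y) = T x + T y := by simp only [T, smul_add, Finset.sum_add_distrib]
        have h2 := hTg g (x + y)
        rw [MulAction.mem_stabilizer_iff.1 hg, h1, hTy, add_zero, hTconst x hxA] at h2
        refine sub_eq_zero.1 (hinv 2 _ ?_)
        rw [smul_sub, smul_comm, ← h2, sub_self])) hxy
      have hyA : ∀ u ∈ A, u • y = y := fun u hu => MulAction.mem_stabilizer_iff.1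
        (hst ▸ MulAction.mem_stabilizer_iff.2 (hxA u hu))
      rw [hTconst y hyA] at hTy
      exact hy0 (hinv 2 y hTy)
    · push Not at hW
      have hW' : ∀ e : E, (∀ v ∈ A, v • e = e) → e = 0 := fun e he => by
        by_contra h
        obtain ⟨v, hv, hve⟩ := hW e h
        exact hve (he v hv)
      have hne : Nontrivial E := by
        by_contra h
        rw [not_nontrivial_iff_subsingleton] at h
        exact htriv fun g e => Subsingleton.elim _ _
      -- some non-identity element of `A` fixes a non-zero element of an invariant subgroup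
      have hfix : ∀ Y : AddSubgroup E, Y ≠ ⊥ → (∀ u ∈ A, ∀ e ∈ Y, u • e ∈ Y) →
          ∃ b ∈ A, b ≠ 1 ∧ ∃ x ∈ Y, x ≠ 0 ∧ b • x = x := by
        intro Y hY hinvY
        by_contra h
        push Not at h
        let φ₀ : A → Multiplicative Y → Multiplicative Y := fun u e =>
          Multiplicative.ofAdd ⟨(u : P) • (Multiplicative.toAdd e).1, hinvY u u.2 _
            (Multiplicative.toAdd e).2⟩
        have hval : ∀ (u : A) (e : Multiplicative Y),
            (Multiplicative.toAdd (φ₀ u e)).1 = (u : P) • (Multiplicative.toAdd e).1 :=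
          fun _ _ => rfl
        have hext : ∀ e e' : Multiplicative Y,
            (Multiplicative.toAdd e).1 = (Multiplicative.toAdd e').1 → e = e' :=
          fun e e' h => Multiplicative.toAdd.injective (Subtype.ext h)
        let φ : A →* MulAut (Multiplicative Y) :=
          { toFun := fun u =>
              { toFun := φ₀ u
                invFun := φ₀ u⁻¹
                left_inv := fun e => hext _ _ (by rw [hval, hval, ← mul_smul]; simp)
                right_inv := fun e => hext _ _ (by rw [hval, hval, ← mul_smul]; simp)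
                map_mul' := fun e e' => hext _ _ (by
                  show (u : P) • ((Multiplicative.toAdd e).1 + (Multiplicative.toAdd e').1) = _
                  rw [smul_add]; rfl) }
            map_one' := MulEquiv.ext fun e => hext _ _ (one_smul P _)
            map_mul' := fun u w => MulEquiv.ext fun e => hext _ _ (mul_smul (u : P) (w : P) _) }
        haveI : Nontrivial (Multiplicative Y) := by
          have := (AddSubgroup.nontrivial_iff_ne_bot Y).2 hY
          exact Multiplicative.toAdd.symm.injective.nontrivial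
        refine hAnc (CfsgLib.Solvable.isCyclic_of_fpf_comm φ (fun u hu e he => ?_)
          fun u w => Subtype.ext (hAc u u.2 w w.2))
        by_contra he1
        refine h u u.2 (fun hu' => hu (Subtype.ext hu')) _ (Multiplicative.toAdd e).2 (fun h0 => ?_) ?_
        · exact he1 (hext _ _ h0)
        · exact congrArg (fun e => (Multiplicative.toAdd e).1) he
      obtain ⟨b, hb, hb1, x, -, hx, hbx⟩ := hfix ⊤ (by
        obtain ⟨e, he⟩ := exists_ne (0 : E)
        exact fun h => he (AddSubgroup.mem_bot.1 (h ▸ AddSubgroup.mem_top e))) fun _ _ _ _ => trivial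
      obtain ⟨u, hu⟩ : ∃ u : E, b • u ≠ u := by
        by_contra h
        push Not at h
        exact hb1 (FaithfulSMul.eq_of_smul_eq_smul fun e : E => by rw [h, one_smul])
      let Y : AddSubgroup E :=
        { carrier := {e | ∃ z : E, e = b • z - z}
          zero_mem' := ⟨0, by rw [smul_zero, sub_self]⟩
          add_mem' := by
            rintro _ _ ⟨z, rfl⟩ ⟨z', rfl⟩
            exact ⟨z + z', by rw [smul_add]; abel⟩
          neg_mem' := by
            rintro _ ⟨z, rfl⟩
            exact ⟨-z, by rw [smul_neg]; abel⟩ }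
      obtain ⟨b₂, hb₂, hb₂1, y, hyY, hy, hby⟩ := hfix Y (fun h => by
          have h1 : b • u - u ∈ Y := ⟨u, rfl⟩
          rw [h, AddSubgroup.mem_bot, sub_eq_zero] at h1
          exact hu h1)
        (by
          rintro w hw _ ⟨z, rfl⟩
          exact ⟨w • z, by rw [smul_sub, ← mul_smul, ← mul_smul, hAc w hw b hb]⟩)
      let Nb : E → E := fun z => ∑ i ∈ Finset.range p, b ^ i • z
      have hNfix : ∀ z, b • z = z → Nb z = p • z := fun z hz => by
        show ∑ i ∈ Finset.range p, b ^ i • z = _
        rw [Finset.sum_congr rfl fun i _ => show b ^ i • z = z from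
          MulAction.mem_stabilizer_iff.1 (pow_mem (MulAction.mem_stabilizer_iff.2 hz) i),
          Finset.sum_const, Finset.card_range]
      have hNb : ∀ z, b • Nb z = Nb z := fun z => by
        show b • ∑ i ∈ Finset.range p, b ^ i • z = ∑ i ∈ Finset.range p, b ^ i • z
        rw [Finset.smul_sum, ← sub_eq_zero, ← Finset.sum_sub_distrib]
        simp only [← mul_smul, ← pow_succ']
        rw [Finset.sum_range_sub (fun i => b ^ i • z), hAp b hb, pow_zero, sub_self]
      have hby' : b • y ≠ y := fun h => by
        obtain ⟨z, hz⟩ := hyY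
        refine hy (hinv 1 y ?_)
        rw [pow_one, ← hNfix y h, hz]
        show ∑ i ∈ Finset.range p, b ^ i • (b • z - z) = 0
        simp only [smul_sub, ← mul_smul, ← pow_succ]
        rw [Finset.sum_range_sub (fun i => b ^ i • z), hAp b hb, pow_zero, sub_self]
      have hgen : ∀ (c c' : P), c ∈ A → c' ∈ A → c' ≠ 1 → c' ∈ Subgroup.zpowers c →
          ∀ e : E, c' • e = e → c • e = e := by
        intro c c' hc hc' hc'1 hmem e he
        have hc1 : c ≠ 1 := fun h => hc'1 (by
          rw [h, Subgroup.zpowers_one_eq_bot, Subgroup.mem_bot] at hmem; exact hmem)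
        have heqz : Subgroup.zpowers c' = Subgroup.zpowers c := by
          refine Subgroup.eq_of_le_of_card_ge (Subgroup.zpowers_le.2 hmem) (le_of_eq ?_)
          rw [Nat.card_zpowers, Nat.card_zpowers, orderOf_eq_prime (hAp c hc) hc1,
            orderOf_eq_prime (hAp c' hc') hc'1]
        exact MulAction.mem_stabilizer_iff.1 ((Subgroup.zpowers_le.2
          (MulAction.mem_stabilizer_iff.2 he)) (heqz ▸ Subgroup.mem_zpowers c))
      have hsplit : ∀ (c : P), c ∈ A → c ∉ Subgroup.zpowers b → ∀ e : E, b • e = e → c • e = e →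
          e = 0 := by
        intro c hc hcb e hbe hce
        refine hW' e fun v hv => ?_
        have hle : Subgroup.zpowers b ⊔ Subgroup.zpowers c = A := by
          refine Subgroup.eq_of_le_of_card_ge
            (sup_le (Subgroup.zpowers_le.2 hb) (Subgroup.zpowers_le.2 hc)) ?_
          have hlt : Subgroup.zpowers b < Subgroup.zpowers b ⊔ Subgroup.zpowers c :=
            lt_of_le_of_ne le_sup_left fun h => hcb
              (h ▸ Subgroup.mem_sup_right (Subgroup.mem_zpowers c))
          have hd : Nat.card ↥(Subgroup.zpowers b ⊔ Subgroup.zpowers c) ∣ p ^ 2 :=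
            hA ▸ Subgroup.card_dvd_of_le
              (sup_le (Subgroup.zpowers_le.2 hb) (Subgroup.zpowers_le.2 hc))
          obtain ⟨k, hk, hk'⟩ := (Nat.dvd_prime_pow hp.out).1 hd
          have hlt' : p < Nat.card ↥(Subgroup.zpowers b ⊔ Subgroup.zpowers c) := by
            have hb' : Nat.card (Subgroup.zpowers b) = p := by
              rw [Nat.card_zpowers, orderOf_eq_prime (hAp b hb) hb1]
            rw [← hb']
            by_contra hge
            exact hlt.ne (Subgroup.eq_of_le_of_card_ge hlt.le (not_lt.1 hge))
          rw [hk', hA]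
          rw [hk'] at hlt'
          have : 1 < k := (Nat.pow_lt_pow_iff_right hp.out.one_lt).1 (by rwa [pow_one])
          exact Nat.pow_le_pow_right hp.out.pos (by omega)
        have hst : Subgroup.zpowers b ⊔ Subgroup.zpowers c ≤ MulAction.stabilizer P e :=
          sup_le (Subgroup.zpowers_le.2 (MulAction.mem_stabilizer_iff.2 hbe))
            (Subgroup.zpowers_le.2 (MulAction.mem_stabilizer_iff.2 hce))
        rw [hle] at hst
        exact MulAction.mem_stabilizer_iff.1 (hst hv)
      have hb₂b : b₂ ∉ Subgroup.zpowers b := fun h => hby' (hgen b b₂ hb hb₂ hb₂1 h y hby)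
      have hNkill : ∀ c ∈ A, c ∉ Subgroup.zpowers b → ∀ e : E, c • e = e → Nb e = 0 := by
        intro c hc hcb e he
        refine hsplit c hc hcb _ (hNb e) ?_
        show c • ∑ i ∈ Finset.range p, b ^ i • e = _
        rw [Finset.smul_sum]
        refine Finset.sum_congr rfl fun i _ => ?_
        rw [← mul_smul, hAc c hc _ (pow_mem hb i), mul_smul, he]
      have hxy : x + y ≠ 0 := fun h => hx (by
        have h1 : y = -x := (neg_eq_of_add_eq_zero_right h).symm
        refine absurd ?_ hby'
        rw [h1, smul_neg, hbx])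
      have hst := heq x y hx hy (fun g hg => MulAction.mem_stabilizer_iff.2 (by
        have hg' : g • x + g • y = x + y := by
          rw [← smul_add]; exact MulAction.mem_stabilizer_iff.1 hg
        have hNadd : Nb (g • x) + Nb (g • y) = p • x := by
          have : Nb (g • x) + Nb (g • y) = Nb (x + y) := by
            rw [← hg']; simp only [Nb, smul_add, Finset.sum_add_distrib]
          rw [this]
          simp only [Nb, smul_add, Finset.sum_add_distrib]
          change Nb x + Nb y = _
          rw [hNfix x hbx, hNkill b₂ hb₂ hb₂b y hby, add_zero]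
        have hconj : ∀ (c : P), g * c * g⁻¹ ∈ A → g * c * g⁻¹ ≠ 1 →
            g * c * g⁻¹ ∈ Subgroup.zpowers b → ∀ e : E, c • e = e → b • g • e = g • e := by
          intro c hc hc1 hmem e he
          refine hgen b _ hb hc hc1 hmem _ ?_
          rw [mul_smul, mul_smul, inv_smul_smul, he]
        have hne1 : ∀ c : P, c ≠ 1 → g * c * g⁻¹ ≠ 1 := fun c hc h => hc (by
          calc c = g⁻¹ * (g * c * g⁻¹) * g := by group
            _ = 1 := by rw [h]; group)
        have hfixc : ∀ (c : P) (e : E), c • e = e → (g * c * g⁻¹) • g • e = g • e := fun c e he => by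
          rw [mul_smul, mul_smul, inv_smul_smul, he]
        by_cases h1 : g * b * g⁻¹ ∈ Subgroup.zpowers b
        · have hgx : b • g • x = g • x :=
            hconj b (hAn.conj_mem b hb g) (hne1 b hb1) h1 x hbx
          have h2 : g * b₂ * g⁻¹ ∉ Subgroup.zpowers b := by
            intro h2
            have hgy : b • g • y = g • y :=
              hconj b₂ (hAn.conj_mem b₂ hb₂ g) (hne1 b₂ hb₂1) h2 y hby
            refine hby' ?_
            have : b • (x + y) = x + y := by rw [← hg', smul_add, hgx, hgy]
            rw [smul_add, hbx] at this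
            exact add_left_cancel this
          rw [hNfix _ hgx, hNkill _ (hAn.conj_mem b₂ hb₂ g) h2 _ (hfixc b₂ y hby), add_zero]
            at hNadd
          exact sub_eq_zero.1 (hinv 1 _ (by rw [pow_one, smul_sub, hNadd, sub_self]))
        · rw [hNkill _ (hAn.conj_mem b hb g) h1 _ (hfixc b x hbx), zero_add] at hNadd
          by_cases h2 : g * b₂ * g⁻¹ ∈ Subgroup.zpowers b
          · have hgy : b • g • y = g • y :=
              hconj b₂ (hAn.conj_mem b₂ hb₂ g) (hne1 b₂ hb₂1) h2 y hby
            rw [hNfix _ hgy] at hNadd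
            have hgy' : g • y = x := sub_eq_zero.1 (hinv 1 _ (by
              rw [pow_one, smul_sub, hNadd, sub_self]))
            have hgx' : g • x = y := by
              rw [hgy', add_comm x y] at hg'
              exact add_right_cancel hg'
            have hsq : g ^ 2 • x = x := by rw [sq, mul_smul, hgx', hgy']
            obtain ⟨k, hk⟩ := (IsPGroup.iff_orderOf.1 hP) g
            have hodd : Odd (p ^ k) := (hp.out.odd_of_ne_two hp2).pow
            obtain ⟨j, hj⟩ := hodd
            have hg2 : (g ^ 2) ^ (j + 1) = g := by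
              rw [← pow_mul, show 2 * (j + 1) = p ^ k + 1 by omega, pow_succ, ← hk,
                pow_orderOf_eq_one, one_mul]
            rw [← hg2]
            exact MulAction.mem_stabilizer_iff.1
              (pow_mem (MulAction.mem_stabilizer_iff.2 hsq) _)
          · rw [hNkill _ (hAn.conj_mem b₂ hb₂ g) h2 _ (hfixc b₂ y hby)] at hNadd
            exact absurd (hinv 1 x (by rw [pow_one]; exact hNadd.symm)) hx)) hxy
      exact hx (hsplit b₂ hb₂ hb₂b x hbx (MulAction.mem_stabilizer_iff.1
        (hst.symm ▸ MulAction.mem_stabilizer_iff.2 hby)))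
  refine ⟨hcyc, fun g hg a ha => ?_⟩
  by_contra ha0
  refine hg (FaithfulSMul.eq_of_smul_eq_smul fun e : E => ?_)
  rw [one_smul]
  by_cases he : e = 0
  · rw [he, smul_zero]
  obtain ⟨u, hu⟩ := IsCyclic.exists_generator (α := ↥(MulAction.stabilizer P e))
  have hcard : orderOf (u : P) = Nat.card ↥(MulAction.stabilizer P a) := by
    rw [Subgroup.orderOf_coe, orderOf_eq_card_of_forall_mem_zpowers hu, hconst e a he ha0]
  have hmem : g ∈ Subgroup.zpowers (u : P) := mem_zpowers_of_cyclic (by
    rw [hcard]
    exact congrArg Subtype.val (pow_card_eq_one' (G := ↥(MulAction.stabilizer P a))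
      (x := ⟨g, MulAction.mem_stabilizer_iff.2 ha⟩)))
  exact MulAction.mem_stabilizer_iff.1 ((Subgroup.zpowers_le.2 u.2) hmem)

end CfsgLib.RankOneSetup.HalfTransitive
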